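import Mathlib

/-!
# Prime power elements and two norm identities

Elementary tools for the theorem on groups with two class sizes of `p`-regular elements.
-/

set_option autoImplicit false

namespace Cfsg.Agent.RegTwoSizes

variable {G : Type*} [Group G]

/-- `x` is an element of `q`-power order. -/
def IsQ (q : ℕ) (x : G) : Prop := ∃ k : ℕ, x ^ (q ^ k) = 1

theorem isQ_one (q : ℕ) : IsQ q (1 : G) := ⟨0, one_pow _⟩

theorem IsQ.mul {q : ℕ} {x y : G} (hx : IsQ q x) (hy : IsQ q y) (h : Commute x y) :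
    IsQ q (x * y) := by
  obtain ⟨a, ha⟩ := hx
  obtain ⟨b, hb⟩ := hy
  refine ⟨a + b, ?_⟩
  rw [h.mul_pow, pow_add, pow_mul x, ha, one_pow, one_mul, mul_comm, pow_mul, hb, one_pow]

theorem IsQ.inv {q : ℕ} {x : G} (hx : IsQ q x) : IsQ q x⁻¹ := by
  obtain ⟨a, ha⟩ := hx
  exact ⟨a, by rw [inv_pow, ha, inv_one]⟩

theorem IsQ.pow {q : ℕ} {x : G} (hx : IsQ q x) (n : ℕ) : IsQ q (x ^ n) := by
  obtain ⟨a, ha⟩ := hx
  exact ⟨a, by rw [← pow_mul, mul_comm, pow_mul, ha, one_pow]⟩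

theorem IsQ.conj {q : ℕ} {x : G} (hx : IsQ q x) (h : G) : IsQ q (h * x * h⁻¹) := by
  obtain ⟨a, ha⟩ := hx
  exact ⟨a, by rw [conj_pow, ha, mul_one, mul_inv_cancel]⟩

theorem IsQ.map {q : ℕ} {x : G} (hx : IsQ q x) {H : Type*} [Group H] (f : G →* H) :
    IsQ q (f x) := by
  obtain ⟨a, ha⟩ := hx
  exact ⟨a, by rw [← map_pow, ha, map_one]⟩

theorem IsQ.orderOf_dvd {q : ℕ} {x : G} (hx : IsQ q x) : ∃ k, orderOf x ∣ q ^ k := by
  obtain ⟨a, ha⟩ := hx
  exact ⟨a, orderOf_dvd_of_pow_eq_one ha⟩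

theorem IsQ.coprime {q r : ℕ} (hq : q.Prime) (hr : r.Prime) (hne : q ≠ r) {x y : G}
    (hx : IsQ q x) (hy : IsQ r y) : (orderOf x).Coprime (orderOf y) := by
  obtain ⟨a, ha⟩ := hx.orderOf_dvd
  obtain ⟨b, hb⟩ := hy.orderOf_dvd
  exact (((Nat.coprime_primes hq hr).2 hne).pow a b).of_dvd ha hb

theorem IsQ.eq_one {q r : ℕ} (hq : q.Prime) (hr : r.Prime) (hne : q ≠ r) {x : G}
    (hx : IsQ q x) (hy : IsQ r x) : x = 1 := by
  have h := IsQ.coprime hq hr hne hx hy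
  rw [Nat.coprime_self] at h
  exact orderOf_eq_one_iff.1 h

theorem IsQ.zpowers {q : ℕ} {x : G} (hx : IsQ q x) : IsPGroup q (Subgroup.zpowers x) := by
  rintro ⟨y, hy⟩
  obtain ⟨a, ha⟩ := hx
  obtain ⟨m, rfl⟩ := Subgroup.mem_zpowers_iff.1 hy
  refine ⟨a, Subtype.ext ?_⟩
  rw [Subgroup.coe_pow, Subgroup.coe_one, ← zpow_natCast, ← zpow_mul, mul_comm, zpow_mul,
    zpow_natCast, ha, one_zpow]

theorem isQ_of_mem {q : ℕ} {P : Subgroup G} (hP : IsPGroup q P) {x : G} (hx : x ∈ P) : IsQ q x := by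
  obtain ⟨a, ha⟩ := hP ⟨x, hx⟩
  exact ⟨a, by simpa using congrArg Subtype.val ha⟩

theorem isPGroup_of_forall {q : ℕ} {P : Subgroup G} (h : ∀ x ∈ P, IsQ q x) : IsPGroup q P := by
  rintro ⟨x, hx⟩
  obtain ⟨a, ha⟩ := h x hx
  exact ⟨a, Subtype.ext (by simpa using ha)⟩

/-- A subgroup containing all prime power order powers of `u` contains `u`. -/
theorem mem_of_primary [Finite G] (S : Subgroup G) (u : G)
    (h : ∀ (k q : ℕ), q.Prime → q ∣ orderOf u → IsQ q (u ^ k) → u ^ k ∈ S) : u ∈ S := by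
  suffices H : ∀ (n : ℕ) (k : ℕ), orderOf (u ^ k) = n → u ^ k ∈ S by
    simpa using H _ 1 rfl
  intro n
  induction n using Nat.strong_induction_on with
  | _ n ih =>
    intro k hn
    rcases eq_or_ne n 1 with h1 | h1
    · rw [orderOf_eq_one_iff.1 (hn.trans h1)]; exact S.one_mem
    have hpos : 0 < n := hn ▸ orderOf_pos _
    have hq := Nat.minFac_prime h1
    set q := n.minFac with hqdef
    set v := n.factorization q with hv
    set a := q ^ v with ha
    set b := n / a with hb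
    have hab : a * b = n := Nat.ordProj_mul_ordCompl_eq_self n q
    have hcop : a.Coprime b := Nat.Coprime.pow_left v (Nat.coprime_ordCompl hq hpos.ne')
    have hqdvd : q ∣ orderOf u :=
      (Nat.minFac_dvd n).trans (hn ▸ orderOf_pow_dvd k)
    have hB : (u ^ k) ^ b ∈ S := by
      rw [← pow_mul]
      refine h _ q hq hqdvd ⟨v, ?_⟩
      rw [← pow_mul, mul_assoc, mul_comm b, hab, pow_mul, ← hn, pow_orderOf_eq_one]
    have hA : (u ^ k) ^ a ∈ S := by
      rw [← pow_mul]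
      have hlt : orderOf (u ^ (k * a)) < n := by
        have hbn : orderOf (u ^ (k * a)) ∣ b := orderOf_dvd_of_pow_eq_one (by
          rw [← pow_mul, mul_assoc, hab, pow_mul, ← hn, pow_orderOf_eq_one])
        have hb0 : 0 < b := Nat.pos_of_ne_zero fun e => hpos.ne' (by rw [← hab, e, mul_zero])
        refine lt_of_le_of_lt (Nat.le_of_dvd hb0 hbn) ?_
        have ha2 : 2 ≤ a := hq.two_le.trans (Nat.le_self_pow
          (hq.factorization_pos_of_dvd hpos.ne' (Nat.minFac_dvd n)).ne' q)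
        nlinarith
      exact ih _ hlt _ rfl
    have e : u ^ k = ((u ^ k) ^ a) ^ Nat.gcdA a b * ((u ^ k) ^ b) ^ Nat.gcdB a b := by
      rw [← zpow_natCast (u ^ k) a, ← zpow_natCast (u ^ k) b, ← zpow_mul, ← zpow_mul, ← zpow_add,
        ← Nat.gcd_eq_gcd_ab, hcop, Nat.cast_one, zpow_one]
    rw [e]
    exact S.mul_mem (S.zpow_mem hA _) (S.zpow_mem hB _)

/-! ### Norms of automorphisms of an abelian group -/

variable {T : Type*} [CommGroup T]

/-- The norm of `σ` of exponent `q`. -/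
def nrm (q : ℕ) [NeZero q] (σ : MulAut T) (w : T) : T := ∏ a : ZMod q, (σ ^ a.val) w

theorem pow_val_mul {M : Type*} [Monoid M] {q : ℕ} [NeZero q] {σ : M} (hσ : σ ^ q = 1)
    (a b : ZMod q) : σ ^ (a * b).val = σ ^ (a.val * b.val) := by
  rw [ZMod.val_mul, ← pow_eq_pow_mod _ hσ]

theorem pow_val_add {M : Type*} [Monoid M] {q : ℕ} [NeZero q] {σ : M} (hσ : σ ^ q = 1)
    (a b : ZMod q) : σ ^ (a + b).val = σ ^ (a.val + b.val) := by
  rw [ZMod.val_add, ← pow_eq_pow_mod _ hσ]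

theorem apply_nrm {q : ℕ} [Fact q.Prime] {σ : MulAut T} (hσ : σ ^ q = 1) (w : T) :
    σ (nrm q σ w) = nrm q σ w := by
  unfold nrm
  rw [map_prod]
  refine Fintype.prod_equiv (Equiv.addRight 1) _ _ fun a => ?_
  rw [Equiv.coe_addRight, pow_val_add hσ, ZMod.val_one, pow_succ', MulAut.mul_apply]

theorem pow_mem_of_commute {q : ℕ} [Fact q.Prime] {σ τ : MulAut T} (hσ : σ ^ q = 1)
    (hτ : τ ^ q = 1) (hc : Commute σ τ) (C : Subgroup T) (w : T)
    (h1 : ∀ v, nrm q τ v ∈ C) (h2 : ∀ j : ℕ, nrm q (σ * τ ^ j) w ∈ C) : w ^ q ∈ C := by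
  classical
  have hprod : ∏ j : ZMod q, nrm q (σ * τ ^ j.val) w ∈ C := C.prod_mem fun j _ => h2 _
  have hswap : ∏ j : ZMod q, nrm q (σ * τ ^ j.val) w =
      ∏ i : ZMod q, ∏ j : ZMod q, (σ ^ i.val * τ ^ (i * j).val) w := by
    unfold nrm
    rw [Finset.prod_comm]
    refine Finset.prod_congr rfl fun i _ => Finset.prod_congr rfl fun j _ => ?_
    rw [(hc.pow_right _).mul_pow, pow_val_mul hτ, mul_comm i.val, pow_mul]
  rw [hswap, Fintype.prod_eq_mul_prod_compl (0 : ZMod q)] at hprod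
  simp only [zero_mul, ZMod.val_zero, pow_zero, one_mul, MulAut.one_apply, Finset.prod_const,
    Finset.card_univ, ZMod.card] at hprod
  refine (C.mul_mem_cancel_right (C.prod_mem fun i hi => ?_)).1 hprod
  rw [Finset.mem_compl, Finset.mem_singleton] at hi
  have e : ∏ j : ZMod q, (σ ^ i.val * τ ^ (i * j).val) w = nrm q τ ((σ ^ i.val) w) := by
    unfold nrm
    refine Fintype.prod_equiv (Equiv.mulLeft₀ i hi) _ _ fun j => ?_
    rw [(hc.pow_pow _ _).eq, MulAut.mul_apply]; rfl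
  rw [e]
  exact h1 _

theorem pow_mem_of_frobenius {q l : ℕ} [Fact q.Prime] [Fact l.Prime] {σ τ : MulAut T}
    (hσ : σ ^ q = 1) (u : ZMod q) (hul : u ^ l = 1) (hu1 : u ≠ 1)
    (hconj : τ * σ * τ⁻¹ = σ ^ u.val) (C : Subgroup T) (w : T)
    (h1 : ∀ v, nrm q σ v ∈ C) (h2 : ∀ i : ℕ, nrm l (σ ^ i * τ * (σ ^ i)⁻¹) w ∈ C) :
    w ^ q ∈ C := by
  classical
  have hconj' : ∀ (b : ℕ) (a : ZMod q),
      τ ^ b * σ ^ a.val = σ ^ (u ^ b * a).val * τ ^ b := by
    intro b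
    induction b with
    | zero => intro a; simp
    | succ b ih =>
      intro a
      have e1 : τ * σ ^ a.val = σ ^ (u * a).val * τ := by
        rw [pow_val_mul hσ, pow_mul, ← hconj, conj_pow]
        group
      rw [pow_succ, mul_assoc, e1, ← mul_assoc, ih, mul_assoc, ← pow_succ, pow_succ u, mul_assoc]
  have hprod : ∏ a : ZMod q, nrm l (σ ^ a.val * τ * (σ ^ a.val)⁻¹) w ∈ C :=
    C.prod_mem fun a _ => h2 _
  have hswap : ∏ a : ZMod q, nrm l (σ ^ a.val * τ * (σ ^ a.val)⁻¹) w =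
      ∏ b : ZMod l, ∏ a : ZMod q, (σ ^ ((1 - u ^ b.val) * a).val) ((τ ^ b.val) w) := by
    unfold nrm
    rw [Finset.prod_comm]
    refine Finset.prod_congr rfl fun b _ => Finset.prod_congr rfl fun a _ => ?_
    have hinv : (σ ^ a.val)⁻¹ = σ ^ (-a).val := by
      refine inv_eq_of_mul_eq_one_right ?_
      rw [← pow_add, ← pow_val_add hσ, add_neg_cancel, ZMod.val_zero, pow_zero]
    rw [conj_pow, hinv, mul_assoc, hconj', ← mul_assoc, ← pow_add, ← pow_val_add hσ,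
      MulAut.mul_apply]
    ring_nf
  rw [hswap, Fintype.prod_eq_mul_prod_compl (0 : ZMod l)] at hprod
  simp only [ZMod.val_zero, pow_zero, sub_self, zero_mul, MulAut.one_apply, Finset.prod_const,
    Finset.card_univ, ZMod.card] at hprod
  refine (C.mul_mem_cancel_right (C.prod_mem fun b hb => ?_)).1 hprod
  rw [Finset.mem_compl, Finset.mem_singleton] at hb
  have hne : 1 - u ^ b.val ≠ 0 := by
    intro h0
    have hb' : u ^ b.val = 1 := (sub_eq_zero.1 h0).symm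
    have hg : u ^ Nat.gcd b.val l = 1 := pow_gcd_eq_one.2 ⟨hb', hul⟩
    have hbv : ¬ l ∣ b.val := fun hd => hb ((ZMod.val_eq_zero b).1
      (Nat.eq_zero_of_dvd_of_lt hd b.val_lt))
    rw [Nat.Coprime.gcd_eq_one (((Fact.out : l.Prime).coprime_iff_not_dvd.2 hbv).symm), pow_one] at hg
    exact hu1 hg
  have e : ∏ a : ZMod q, (σ ^ ((1 - u ^ b.val) * a).val) ((τ ^ b.val) w) =
      nrm q σ ((τ ^ b.val) w) :=
    Fintype.prod_equiv (Equiv.mulLeft₀ _ hne) _ _ fun a => rfl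
  rw [e]
  exact h1 _

end Cfsg.Agent.RegTwoSizes
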