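import Mathlib
import Cfsg.Agent.Lib.RegTwoSizes.Gen

/-!
# Centralisers of noncentral `p`-regular elements when all have one order

If all noncentral `p`-regular elements have centralisers of one order, and at least two primes
other than `p` occur among the orders of noncentral elements of prime power order, then the
`p`-regular elements of such a centraliser `C` are central in `C`, and `C` is the centraliser of
each of them that is noncentral.
-/

set_option autoImplicit false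
set_option linter.unusedSectionVars false

namespace Cfsg.Agent.RegTwoSizes

open Subgroup

variable {G : Type*} [Group G]

/-- The centraliser of an element. -/
abbrev cen (x : G) : Subgroup G := Subgroup.centralizer ({x} : Set G)

theorem mem_cen {x u : G} : u ∈ cen x ↔ u * x = x * u := Subgroup.mem_centralizer_singleton_iff

theorem self_mem_cen (x : G) : x ∈ cen x := mem_cen.2 rfl

theorem mem_cen_symm {x u : G} (h : u ∈ cen x) : x ∈ cen u := mem_cen.2 (mem_cen.1 h).symm

theorem center_le_cen (x : G) : Subgroup.center G ≤ cen x := Subgroup.center_le_centralizer _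

theorem cen_eq_top_iff {x : G} : cen x = ⊤ ↔ x ∈ Subgroup.center G := by
  rw [Subgroup.mem_center_iff, Subgroup.eq_top_iff']
  simp only [mem_cen]

theorem mem_cen_conj {h x u : G} : u ∈ cen (h * x * h⁻¹) ↔ h⁻¹ * u * h ∈ cen x := by
  rw [mem_cen, mem_cen]
  constructor
  · intro e
    calc h⁻¹ * u * h * x = h⁻¹ * (u * (h * x * h⁻¹)) * h := by group
      _ = x * (h⁻¹ * u * h) := by rw [e]; group
  · intro e
    calc u * (h * x * h⁻¹) = h * (h⁻¹ * u * h * x) * h⁻¹ := by group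
      _ = h * x * h⁻¹ * u := by rw [e]; group

theorem cen_mul_center {x z : G} (hz : z ∈ Subgroup.center G) : cen (z * x) = cen x := by
  ext u
  rw [mem_cen, mem_cen, ← mul_assoc, Subgroup.mem_center_iff.1 hz u, mul_assoc, mul_assoc,
    mul_left_cancel_iff]

theorem conj_mem_center {h x : G} : h * x * h⁻¹ ∈ Subgroup.center G ↔ x ∈ Subgroup.center G := by
  refine ⟨fun hc => ?_, fun hc => (inferInstance : (Subgroup.center G).Normal).conj_mem x hc h⟩
  have := (inferInstance : (Subgroup.center G).Normal).conj_mem _ hc h⁻¹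
  simpa [mul_assoc] using this

/-- `x` has order prime to `p`. -/
def Reg (p : ℕ) (x : G) : Prop := (orderOf x).Coprime p

/-- `x` is a noncentral element of order prime to `p`. -/
def Non (p : ℕ) (x : G) : Prop := Reg p x ∧ x ∉ Subgroup.center G

/-- There is a noncentral element of `q`-power order. -/
def HasNon (G : Type*) [Group G] (q : ℕ) : Prop := ∃ x : G, IsQ q x ∧ x ∉ Subgroup.center G

/-- The running hypothesis. -/
structure Setup (p : ℕ) (G : Type*) [Group G] : Prop where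
  hp : p.Prime
  hyp : ∀ x y : G, Non p x → Non p y → Nat.card (cen x) = Nat.card (cen y)
  two : ∃ q r : ℕ, q.Prime ∧ r.Prime ∧ q ≠ p ∧ r ≠ p ∧ q ≠ r ∧ HasNon G q ∧ HasNon G r

variable {p : ℕ}

theorem Setup.other (hS : Setup p G) (q : ℕ) :
    ∃ r : ℕ, r.Prime ∧ r ≠ p ∧ r ≠ q ∧ HasNon G r := by
  obtain ⟨a, b, ha, hb, hap, hbp, hab, hA, hB⟩ := hS.two
  rcases eq_or_ne a q with h | h
  · exact ⟨b, hb, hbp, h ▸ hab.symm, hB⟩
  · exact ⟨a, ha, hap, h, hA⟩

theorem Reg.pow {x : G} (hx : Reg p x) (n : ℕ) : Reg p (x ^ n) :=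
  hx.of_dvd_left (orderOf_pow_dvd n)

theorem Reg.mul {x y : G} (hx : Reg p x) (hy : Reg p y) (h : Commute x y) : Reg p (x * y) :=
  (Nat.Coprime.mul_left hx hy).of_dvd_left h.orderOf_mul_dvd_mul_orderOf

theorem Reg.inv {x : G} (hx : Reg p x) : Reg p x⁻¹ := by rwa [Reg, orderOf_inv]

theorem orderOf_conj' (h x : G) : orderOf (h * x * h⁻¹) = orderOf x :=
  orderOf_injective (MulAut.conj h).toMonoidHom (MulAut.conj h).injective x

theorem Reg.conj {x : G} (hx : Reg p x) (h : G) : Reg p (h * x * h⁻¹) := by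
  rwa [Reg, orderOf_conj']

theorem Non.conj {x : G} (hx : Non p x) (h : G) : Non p (h * x * h⁻¹) :=
  ⟨hx.1.conj h, fun hc => hx.2 (conj_mem_center.1 hc)⟩

theorem reg_of_isQ (hp : p.Prime) {q : ℕ} (hq : q.Prime) (hqp : q ≠ p) {x : G} (hx : IsQ q x) :
    Reg p x := by
  obtain ⟨k, hk⟩ := hx.orderOf_dvd
  exact (((Nat.coprime_primes hq hp).2 hqp).pow_left k).of_dvd_left hk

theorem non_of_isQ (hp : p.Prime) {q : ℕ} (hq : q.Prime) (hqp : q ≠ p) {x : G} (hx : IsQ q x)
    (hc : x ∉ Subgroup.center G) : Non p x := ⟨reg_of_isQ hp hq hqp hx, hc⟩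

theorem ne_of_dvd_reg (hp : p.Prime) {q : ℕ} {x : G} (hx : Reg p x) (hd : q ∣ orderOf x) :
    q ≠ p := by
  rintro rfl
  exact hp.ne_one (Nat.eq_one_of_dvd_coprimes hx hd dvd_rfl)

variable [Finite G]

theorem exists_primary (hp : p.Prime) {x : G} (hx : Non p x) :
    ∃ q k : ℕ, q.Prime ∧ q ≠ p ∧ IsQ q (x ^ k) ∧ x ^ k ∉ Subgroup.center G := by
  by_contra hcon
  push Not at hcon
  exact hx.2 (mem_of_primary _ x fun k q hq hd hk =>
    hcon q k hq (ne_of_dvd_reg hp hx.1 hd) hk)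

theorem mem_center_of_pow {x : G} {n : ℕ} (hn : n.Coprime (orderOf x))
    (h : x ^ n ∈ Subgroup.center G) : x ∈ Subgroup.center G := by
  obtain ⟨m, hm⟩ := exists_pow_eq_self_of_coprime hn
  rw [← hm]
  exact pow_mem h m

theorem eq_one_of_pow {x : G} {n : ℕ} (hn : n.Coprime (orderOf x)) (h : x ^ n = 1) : x = 1 := by
  obtain ⟨m, hm⟩ := exists_pow_eq_self_of_coprime hn
  rw [← hm, h, one_pow]

theorem cen_eq_of_le (hS : Setup p G) {x y : G} (hx : Non p x) (hy : Non p y) (h : cen x ≤ cen y) :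
    cen x = cen y :=
  Subgroup.eq_of_le_of_card_ge h (hS.hyp y x hy hx).le

theorem cen_le_of_coprime (hS : Setup p G) {x y : G} (hx : Non p x) (hy : Reg p y)
    (hc : Commute x y) (hcop : (orderOf x).Coprime (orderOf y)) : cen x ≤ cen y := by
  have hle : ∀ u ∈ cen (x * y), u ∈ cen x ∧ u ∈ cen y := by
    intro u hu
    have hxy : (x * y) ^ orderOf y = x ^ orderOf y := by
      rw [hc.mul_pow, pow_orderOf_eq_one, mul_one]
    obtain ⟨m, hm⟩ := exists_pow_eq_self_of_coprime hcop.symm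
    have hu' : Commute u (x * y) := mem_cen.1 hu
    have hux : Commute u x := by
      have := (hu'.pow_right (orderOf y)).pow_right m
      rwa [hxy, hm] at this
    refine ⟨mem_cen.2 hux.eq, mem_cen.2 ?_⟩
    have : Commute u (x⁻¹ * (x * y)) := hux.inv_right.mul_right hu'
    rwa [inv_mul_cancel_left] at this
  have hxy : Non p (x * y) := by
    refine ⟨hx.1.mul hy hc, fun h => hx.2 ?_⟩
    rw [← cen_eq_top_iff] at h ⊢
    exact top_le_iff.1 fun u hu => (hle u (h ▸ hu)).1
  have h1 : cen (x * y) = cen x := cen_eq_of_le hS hxy hx fun u hu => (hle u hu).1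
  exact fun u hu => (hle u (h1 ▸ hu)).2

theorem exists_non_mem (hS : Setup p G) {x : G} (hx : Non p x) {r : ℕ} (hr : r.Prime)
    (hrp : r ≠ p) (hR : HasNon G r) : ∃ y ∈ cen x, IsQ r y ∧ y ∉ Subgroup.center G := by
  haveI := Fact.mk hr
  obtain ⟨y₀, hy₀, hy₀c⟩ := hR
  by_contra hcon
  push Not at hcon
  obtain ⟨R⟩ : Nonempty (Sylow r (cen x)) := inferInstance
  set R' : Subgroup G := (R : Subgroup (cen x)).map (cen x).subtype with hR'
  have hR'p : IsPGroup r R' := R.isPGroup'.map _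
  have hR'c : R' ≤ Subgroup.center G := fun u hu =>
    hcon u (Subgroup.map_subtype_le _ hu) (isQ_of_mem hR'p hu)
  haveI : R'.Normal := ⟨fun u hu h => by
    rwa [Subgroup.mem_center_iff.1 (hR'c hu) h, mul_inv_cancel_right]⟩
  have hB : IsPGroup r ↥(Subgroup.zpowers y₀ ⊔ R') :=
    hy₀.zpowers.to_sup_of_normal_right hR'p
  set B : Subgroup G := Subgroup.zpowers y₀ ⊔ R' with hBdef
  have hBc : B ≤ cen y₀ := sup_le ((Subgroup.zpowers_le).2 (self_mem_cen y₀))
    (hR'c.trans (center_le_cen _))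
  obtain ⟨k, hk⟩ := hB.exists_card_eq
  have hdvd : Nat.card B ∣ Nat.card (cen y₀) := Subgroup.card_dvd_of_le hBc
  rw [hS.hyp y₀ x (non_of_isQ hS.hp hr hrp hy₀ hy₀c) hx, hk,
    hr.pow_dvd_iff_le_factorization Nat.card_pos.ne'] at hdvd
  have hcardR : Nat.card R' = r ^ (Nat.card (cen x)).factorization r := by
    rw [hR', Subgroup.card_map_of_injective (cen x).subtype_injective, R.card_eq_multiplicity]
  have hle : Nat.card B ≤ Nat.card R' := by
    rw [hk, hcardR]
    exact Nat.pow_le_pow_right hr.pos hdvd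
  have heq := Subgroup.eq_of_le_of_card_ge (le_sup_right : R' ≤ B) hle
  exact hy₀c (hR'c (heq ▸ Subgroup.mem_sup_left (Subgroup.mem_zpowers y₀)))

theorem cen_le_primary (hS : Setup p G) {x : G} {q : ℕ} (hq : q.Prime)
    (hqp : q ≠ p) (hx : IsQ q x) (hxc : x ∉ Subgroup.center G) {w : G} (hw : w ∈ cen x)
    (hwr : Reg p w) : cen x ≤ cen w := by
  have hxn := non_of_isQ hS.hp hq hqp hx hxc
  suffices H : w ∈ Subgroup.centralizer (cen x : Set G) from fun u hu =>
    mem_cen.2 (Subgroup.mem_centralizer_iff.1 H u hu)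
  refine mem_of_primary _ w fun k l hl hd hk => ?_
  have hlp := ne_of_dvd_reg hS.hp hwr hd
  suffices H : cen x ≤ cen (w ^ k) from Subgroup.mem_centralizer_iff.2 fun u hu => mem_cen.1 (H hu)
  have hwk : w ^ k ∈ cen x := pow_mem hw k
  have hcop : ∀ {a b : ℕ} {u v : G}, a.Prime → b.Prime → b ≠ p → a ≠ b → IsQ a u → IsQ b v →
      Non p u → v ∈ cen u → cen u ≤ cen v := fun ha hb hbp hab hu hv hun hvu =>
    cen_le_of_coprime hS hun (reg_of_isQ hS.hp hb hbp hv) (mem_cen.1 hvu).symm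
      (hu.coprime ha hb hab hv)
  rcases eq_or_ne l q with rfl | hne
  · obtain ⟨r, hr, hrp, hrl, hR⟩ := hS.other l
    obtain ⟨y, hy, hyQ, hyc⟩ := exists_non_mem hS hxn hr hrp hR
    have hyn := non_of_isQ hS.hp hr hrp hyQ hyc
    have e := cen_eq_of_le hS hxn hyn (hcop hl hr hrp hrl.symm hx hyQ hxn hy)
    rw [e] at hwk ⊢
    exact hcop hr hl hlp hrl hyQ hk hyn hwk
  · exact hcop hq hl hlp hne.symm hx hk hxn hwk

theorem cen_le (hS : Setup p G) {x : G} (hx : Non p x) {w : G} (hw : w ∈ cen x) (hwr : Reg p w) :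
    cen x ≤ cen w := by
  obtain ⟨q, k, hq, hqp, hQ, hc⟩ := exists_primary hS.hp hx
  have e : cen x = cen (x ^ k) := cen_eq_of_le hS hx ⟨hx.1.pow k, hc⟩ fun u hu =>
    mem_cen.2 ((show Commute u x from mem_cen.1 hu).pow_right k).eq
  rw [e] at hw ⊢
  exact cen_le_primary hS hq hqp hQ hc hw hwr

theorem cen_eq (hS : Setup p G) {x u : G} (hx : Non p x) (hu : Non p u) (h : u ∈ cen x) :
    cen u = cen x :=
  (cen_eq_of_le hS hx hu (cen_le hS hx h hu.1)).symm

theorem commute_of_mem (hS : Setup p G) {x u v : G} (hx : Non p x) (hu : u ∈ cen x)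
    (hur : Reg p u) (hv : v ∈ cen x) : Commute u v :=
  (mem_cen.1 (cen_le hS hx hu hur hv)).symm

/-- The `q`-elements of the centraliser of `x`. -/
def tor (x : G) (q : ℕ) : Subgroup G := Subgroup.closure {u | u ∈ cen x ∧ IsQ q u}

theorem tor_le (x : G) (q : ℕ) : tor x q ≤ cen x := (Subgroup.closure_le _).2 fun _ hu => hu.1

theorem mem_tor_of {x u : G} {q : ℕ} (h : u ∈ cen x) (hq : IsQ q u) : u ∈ tor x q :=
  Subgroup.subset_closure ⟨h, hq⟩

theorem isQ_of_mem_tor (hS : Setup p G) {x : G} (hx : Non p x) {q : ℕ} (hq : q.Prime)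
    (hqp : q ≠ p) {u : G} (hu : u ∈ tor x q) : IsQ q u := by
  have key : ∀ v ∈ tor x q, v ∈ cen x ∧ IsQ q v := by
    intro v hv
    induction hv using Subgroup.closure_induction with
    | mem v hv => exact hv
    | one => exact ⟨one_mem _, isQ_one q⟩
    | mul a b _ _ ha hb => exact ⟨mul_mem ha.1 hb.1,
        ha.2.mul hb.2 (commute_of_mem hS hx ha.1 (reg_of_isQ hS.hp hq hqp ha.2) hb.1)⟩
    | inv a _ ha => exact ⟨inv_mem ha.1, ha.2.inv⟩
  exact (key u hu).2

theorem reg_of_mem_tor (hS : Setup p G) {x : G} (hx : Non p x) {q : ℕ} (hq : q.Prime)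
    (hqp : q ≠ p) {u : G} (hu : u ∈ tor x q) : Reg p u :=
  reg_of_isQ hS.hp hq hqp (isQ_of_mem_tor hS hx hq hqp hu)

theorem tor_comm (hS : Setup p G) {x : G} (hx : Non p x) {q : ℕ} (hq : q.Prime) (hqp : q ≠ p) :
    IsMulCommutative (tor x q) :=
  ⟨⟨fun a b => Subtype.ext (commute_of_mem hS hx (tor_le x q a.2)
    (reg_of_mem_tor hS hx hq hqp a.2) (tor_le x q b.2)).eq⟩⟩

theorem cen_eq_of_mem_tor (hS : Setup p G) {x : G} (hx : Non p x) {q : ℕ} (hq : q.Prime)
    (hqp : q ≠ p) {u : G} (hu : u ∈ tor x q) (huc : u ∉ Subgroup.center G) : cen u = cen x :=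
  cen_eq hS hx ⟨reg_of_mem_tor hS hx hq hqp hu, huc⟩ (tor_le x q hu)

theorem card_tor (hS : Setup p G) {x : G} (hx : Non p x) {q : ℕ} (hq : q.Prime) (hqp : q ≠ p) :
    Nat.card (tor x q) = q ^ (Nat.card (cen x)).factorization q := by
  haveI := Fact.mk hq
  obtain ⟨S⟩ : Nonempty (Sylow q (cen x)) := inferInstance
  have hle : (S : Subgroup (cen x)) ≤ (tor x q).subgroupOf (cen x) := fun u hu =>
    mem_tor_of u.2 ((isQ_of_mem S.isPGroup' hu).map (cen x).subtype)
  have hT : IsPGroup q (tor x q) := isPGroup_of_forall fun u hu => isQ_of_mem_tor hS hx hq hqp hu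
  have h := S.is_maximal' (hT.comap_of_injective _ (cen x).subtype_injective) hle
  rw [← S.card_eq_multiplicity,
    ← Nat.card_congr (Subgroup.subgroupOfEquivOfLe (tor_le x q)).toEquiv]
  exact congrArg (fun H : Subgroup (cen x) => Nat.card H) h

theorem exists_tor_non (hS : Setup p G) {x : G} (hx : Non p x) {r : ℕ} (hr : r.Prime)
    (hrp : r ≠ p) (hR : HasNon G r) : ∃ y ∈ tor x r, y ∉ Subgroup.center G := by
  obtain ⟨y, hy, hyQ, hyc⟩ := exists_non_mem hS hx hr hrp hR
  exact ⟨y, mem_tor_of hy hyQ, hyc⟩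

/-- The normaliser of the centraliser. -/
abbrev nC (x : G) : Subgroup G := Subgroup.normalizer (cen x : Set G)

omit [Finite G] in
theorem mem_nC_iff {x k : G} : k ∈ nC x ↔ cen (k * x * k⁻¹) = cen x := by
  rw [Subgroup.mem_normalizer_iff]
  constructor
  · intro h
    ext u
    rw [mem_cen_conj, h (k⁻¹ * u * k)]
    simp [mul_assoc]
  · intro h u
    conv_rhs => rw [← h]
    rw [mem_cen_conj]
    simp [mul_assoc]

theorem conj_mem_tor {x h u : G} {q : ℕ} (hu : u ∈ tor x q) :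
    h * u * h⁻¹ ∈ tor (h * x * h⁻¹) q := by
  have key : (tor x q).map (MulAut.conj h).toMonoidHom ≤ tor (h * x * h⁻¹) q := by
    rw [tor, MonoidHom.map_closure, Subgroup.closure_le]
    rintro _ ⟨v, hv, rfl⟩
    exact mem_tor_of (mem_cen_conj.2 (by simpa [mul_assoc] using hv.1)) (hv.2.map _)
  exact key ⟨u, hu, rfl⟩

theorem tor_congr {x y : G} (h : cen x = cen y) (q : ℕ) : tor x q = tor y q := by
  rw [tor, tor, h]

theorem conj_mem_tor_of_nC {x k u : G} {q : ℕ} (hk : k ∈ nC x) (hu : u ∈ tor x q) :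
    k * u * k⁻¹ ∈ tor x q := by
  rw [← tor_congr (mem_nC_iff.1 hk) q]
  exact conj_mem_tor hu

theorem nC_le_normalizer_tor (x : G) (q : ℕ) :
    nC x ≤ Subgroup.normalizer (tor x q : Set G) := by
  intro k hk
  rw [Subgroup.mem_normalizer_iff]
  refine fun u => ⟨conj_mem_tor_of_nC hk, fun hu => ?_⟩
  have := conj_mem_tor_of_nC (inv_mem hk) hu
  simpa [mul_assoc] using this

theorem cen_le_nC (x : G) : cen x ≤ nC x := Subgroup.le_normalizer

end Cfsg.Agent.RegTwoSizes
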