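import Mathlib
import Cfsg.Agent.Lib.RegTwoSizes.Basic

/-!
# The Sylow subgroups at a prime dividing the class size

For a prime `q ≠ p` dividing the common class size, a Sylow `q`-subgroup has a subgroup of index
`q` in one centraliser.
-/

set_option autoImplicit false
set_option linter.unusedSectionVars false

namespace Cfsg.Agent.RegTwoSizes

open Subgroup

variable {G : Type*} [Group G] {p : ℕ}

/-- The commutator of `k` and `x`. -/
def cm (x k : G) : G := k * x * k⁻¹ * x⁻¹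

theorem cm_eq_one {x k : G} : cm x k = 1 ↔ k ∈ cen x := by
  rw [cm, mul_inv_eq_one, mul_inv_eq_iff_eq_mul, mem_cen]

theorem cm_mul_of_mem {x k l : G} (hl : cm x l ∈ Subgroup.center G) :
    cm x (k * l) = cm x l * cm x k := by
  have e : l * x * l⁻¹ = cm x l * x := by rw [cm, inv_mul_cancel_right]
  calc cm x (k * l) = k * (l * x * l⁻¹) * k⁻¹ * x⁻¹ := by rw [cm]; group
    _ = k * (cm x l * x) * k⁻¹ * x⁻¹ := by rw [e]
    _ = cm x l * (k * x * k⁻¹ * x⁻¹) := by
        rw [← mul_assoc k, Subgroup.mem_center_iff.1 hl k]; group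
    _ = _ := rfl

/-- The elements commuting with `x` modulo the centre. -/
def mX (x : G) : Subgroup G where
  carrier := {k | cm x k ∈ Subgroup.center G}
  one_mem' := by simp [cm]
  mul_mem' {a b} ha hb := by
    show cm x (a * b) ∈ Subgroup.center G
    rw [cm_mul_of_mem hb]
    exact mul_mem hb ha
  inv_mem' {a} ha := by
    show cm x a⁻¹ ∈ Subgroup.center G
    have h := cm_mul_of_mem (k := a⁻¹) (show cm x a ∈ Subgroup.center G from ha)
    rw [inv_mul_cancel, show cm x (1 : G) = 1 by simp [cm]] at h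
    rw [eq_inv_of_mul_eq_one_right h.symm]
    exact inv_mem ha

theorem mem_mX {x k : G} : k ∈ mX x ↔ cm x k ∈ Subgroup.center G := Iff.rfl

theorem cm_mul {x k l : G} (hl : l ∈ mX x) : cm x (k * l) = cm x l * cm x k := cm_mul_of_mem hl

theorem cm_pow {x k : G} (hk : k ∈ mX x) (n : ℕ) : cm x (k ^ n) = cm x k ^ n := by
  induction n with
  | zero => simp [cm]
  | succ n ih => rw [pow_succ, cm_mul hk, ih, pow_succ']

theorem cen_le_mX (x : G) : cen x ≤ mX x := fun k hk => by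
  rw [mem_mX, cm_eq_one.2 hk]; exact one_mem _

theorem mX_le_nC (x : G) : mX x ≤ nC x := fun k hk => by
  rw [mem_nC_iff, show k * x * k⁻¹ = cm x k * x by rw [cm, inv_mul_cancel_right]]
  exact cen_mul_center hk

theorem mem_mX_symm {x k : G} (hk : k ∈ mX x) : x ∈ mX k := by
  rw [mem_mX, show cm k x = (cm x k)⁻¹ by rw [cm, cm]; group]
  exact inv_mem hk

theorem mem_mX_pow {x k : G} (hk : k ∈ mX x) (n : ℕ) : k ∈ mX (x ^ n) :=
  mem_mX_symm (pow_mem (mem_mX_symm hk) n)

theorem cm_pow_eq_one {x k : G} {q : ℕ} (hxq : x ^ q ∈ Subgroup.center G) (hk : k ∈ mX x) :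
    cm x k ^ q = 1 := by
  have e : k * x * k⁻¹ = cm x k * x := by rw [cm, inv_mul_cancel_right]
  have h := congrArg (· ^ q) e
  simp only [conj_pow] at h
  rw [Subgroup.mem_center_iff.1 hxq k, mul_inv_cancel_right,
    (show Commute (cm x k) x from (Subgroup.mem_center_iff.1 hk x).symm).mul_pow,
    right_eq_mul] at h
  exact h

theorem pow_mem_cen {x k : G} {q : ℕ} (hxq : x ^ q ∈ Subgroup.center G) (hk : k ∈ mX x) :
    k ^ q ∈ cen x := by rw [← cm_eq_one, cm_pow hk, cm_pow_eq_one hxq hk]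

variable [Finite G]

theorem mem_cen_of_fixed_mod (hS : Setup p G) {x y k : G} (hx : Non p x) {r n : ℕ} (hr : r.Prime)
    (hrp : r ≠ p) (hy : y ∈ tor x r) (hyc : y ∉ Subgroup.center G) (hk : k ∈ mX y)
    (hn : k ^ n ∈ cen x) (hrn : ¬ r ∣ n) : k ∈ cen x := by
  have e := cen_eq_of_mem_tor hS hx hr hrp hy hyc
  rw [← e] at hn ⊢
  rw [← cm_eq_one]
  rw [← cm_eq_one, cm_pow hk] at hn
  have hzQ : IsQ r (cm y k) := by
    have h1 := (isQ_of_mem_tor hS hx hr hrp hy)
    refine (h1.conj k).mul h1.inv ?_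
    have e2 : k * y * k⁻¹ = cm y k * y := by rw [cm, inv_mul_cancel_right]
    rw [e2]
    exact ((show Commute (cm y k) y from (Subgroup.mem_center_iff.1 hk y).symm).mul_left
      (Commute.refl y)).inv_right
  obtain ⟨j, hj⟩ := hzQ.orderOf_dvd
  exact eq_one_of_pow (((hr.coprime_iff_not_dvd.2 hrn).symm.pow_right j).of_dvd_right hj) hn

theorem act_val {T : Subgroup G} (k : ↥(Subgroup.normalizer (T : Set G))) (w : T) :
    ((T.normalizerMonoidHom k w : T) : G) = (k : G) * w * (k : G)⁻¹ := rfl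

theorem act_eq_one (hS : Setup p G) {x : G} (hx : Non p x) {r : ℕ} (hr : r.Prime) (hrp : r ≠ p)
    (k : ↥(Subgroup.normalizer (tor x r : Set G))) (hk : (k : G) ∈ cen x) :
    (tor x r).normalizerMonoidHom k = 1 := by
  apply MulEquiv.ext
  intro w
  apply Subtype.ext
  rw [act_val, MulAut.one_apply,
    ← (commute_of_mem hS hx (tor_le x r w.2) (reg_of_mem_tor hS hx hr hrp w.2) hk).eq,
    mul_inv_cancel_right]

theorem mem_cen_of_act_fix (hS : Setup p G) {x : G} (hx : Non p x) {r : ℕ} (hr : r.Prime)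
    (hrp : r ≠ p) (k : ↥(Subgroup.normalizer (tor x r : Set G))) (w : tor x r)
    (hw : (w : G) ∉ Subgroup.center G) (h : (tor x r).normalizerMonoidHom k w = w) :
    (k : G) ∈ cen x := by
  have h' := congrArg Subtype.val h
  rw [act_val, mul_inv_eq_iff_eq_mul] at h'
  rw [← cen_eq_of_mem_tor hS hx hr hrp w.2 hw, mem_cen]
  exact h'

open scoped IsMulCommutative in
theorem nrm_mem_center (hS : Setup p G) {x : G} (hx : Non p x) {r : ℕ} (hr : r.Prime) (hrp : r ≠ p)
    [IsMulCommutative (tor x r)] {n : ℕ} [Fact n.Prime]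
    (k : ↥(Subgroup.normalizer (tor x r : Set G))) (hk : (k : G) ∉ cen x)
    (hkn : (k : G) ^ n ∈ cen x) (w : tor x r) :
    nrm n ((tor x r).normalizerMonoidHom k) w ∈ (Subgroup.center G).subgroupOf (tor x r) := by
  have h1 : (tor x r).normalizerMonoidHom k ^ n = 1 := by
    rw [← map_pow]
    exact act_eq_one hS hx hr hrp _ (by simpa using hkn)
  by_contra hc
  exact hk (mem_cen_of_act_fix hS hx hr hrp k _ hc (apply_nrm h1 w))

open scoped IsMulCommutative in
theorem exists_pow_mem_cen (hS : Setup p G) {x : G} {q : ℕ} (hq : q.Prime) (hx : Non p x)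
    (hxq : x ^ q ∈ Subgroup.center G) {k l : G} (hk : k ∈ mX x)
    (hl : l ∈ mX x) (hkc : k ∉ cen x) : ∃ i : ℕ, i < q ∧ l * (k ^ i)⁻¹ ∈ cen x := by
  haveI := Fact.mk hq
  by_contra hcon
  push Not at hcon
  obtain ⟨r, hr, hrp, hrq, hR⟩ := hS.other q
  haveI := tor_comm hS hx hr hrp
  set N := Subgroup.normalizer (tor x r : Set G) with hN
  have hle : mX x ≤ N := (mX_le_nC x).trans (nC_le_normalizer_tor x r)
  let k' : N := ⟨k, hle hk⟩
  let l' : N := ⟨l, hle hl⟩
  let φ : N →* MulAut (tor x r) := (tor x r).normalizerMonoidHom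
  have hone : ∀ m : N, (m : G) ∈ cen x → φ m = 1 := fun m hm => act_eq_one hS hx hr hrp m hm
  have hc : Commute (φ k') (φ l') := by
    rw [← commutatorElement_eq_one_iff_commute, ← map_commutatorElement]
    refine hone _ ?_
    rw [← cm_eq_one]
    have hkl : k * l * k⁻¹ ∈ mX x := mul_mem (mul_mem hk hl) (inv_mem hk)
    show cm x (k * l * k⁻¹ * l⁻¹) = 1
    have hk' : cm x k⁻¹ = (cm x k)⁻¹ := by
      have h := cm_mul (k := k⁻¹) hk
      rw [inv_mul_cancel, show cm x (1 : G) = 1 by simp [cm]] at h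
      exact eq_inv_of_mul_eq_one_right h.symm
    have hl' : cm x l⁻¹ = (cm x l)⁻¹ := by
      have h := cm_mul (k := l⁻¹) hl
      rw [inv_mul_cancel, show cm x (1 : G) = 1 by simp [cm]] at h
      exact eq_inv_of_mul_eq_one_right h.symm
    rw [cm_mul (inv_mem hl), cm_mul (inv_mem hk), cm_mul hl, hk', hl']
    have z1 := Subgroup.mem_center_iff.1 (mem_mX.1 hk)
    rw [z1 (cm x l)]
    group
  have hσ : φ k' ^ q = 1 := by
    rw [← map_pow]; exact hone _ (by simpa [k'] using pow_mem_cen hxq hk)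
  have hτ : φ l' ^ q = 1 := by
    rw [← map_pow]; exact hone _ (by simpa [l'] using pow_mem_cen hxq hl)
  have hlc : l ∉ cen x := fun h => hcon 0 hq.pos (by simpa using h)
  have hkl : ∀ j : ℕ, k * l ^ j ∉ cen x := by
    intro j hj
    rw [← cm_eq_one, cm_mul (pow_mem hl j), cm_pow hl] at hj
    rcases eq_or_ne ((j : ℕ) : ZMod q) 0 with h0 | h0
    · obtain ⟨c, rfl⟩ := (CharP.cast_eq_zero_iff (ZMod q) q _).1 h0
      rw [pow_mul, cm_pow_eq_one hxq hl, one_pow, one_mul, cm_eq_one] at hj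
      exact hkc hj
    · set i := (-((j : ZMod q))⁻¹).val with hi
      refine hcon i (ZMod.val_lt _) ?_
      have hki : (k ^ i : G) ∈ mX x := pow_mem hk i
      rw [← cm_eq_one, cm_mul (inv_mem hki)]
      have h1 : cm x k ^ i = cm x l := by
        rw [eq_inv_of_mul_eq_one_right hj, inv_pow, ← pow_mul, inv_eq_iff_mul_eq_one, ← pow_succ,
          ← orderOf_dvd_iff_pow_eq_one]
        refine (orderOf_dvd_of_pow_eq_one (cm_pow_eq_one hxq hl)).trans
          ((CharP.cast_eq_zero_iff (ZMod q) q _).1 ?_)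
        rw [Nat.cast_add, Nat.cast_mul, Nat.cast_one, hi, ZMod.natCast_zmod_val, mul_neg,
          mul_inv_cancel₀ h0, neg_add_cancel]
      have h2 : cm x (k ^ i)⁻¹ = (cm x (k ^ i))⁻¹ := by
        have h := cm_mul (k := (k ^ i)⁻¹) hki
        rw [inv_mul_cancel, show cm x (1 : G) = 1 by simp [cm]] at h
        exact eq_inv_of_mul_eq_one_right h.symm
      rw [h2, cm_pow hk, h1, inv_mul_cancel]
  obtain ⟨y, hy, hyc⟩ := exists_tor_non hS hx hr hrp hR
  have hmem := pow_mem_of_commute hσ hτ hc ((Subgroup.center G).subgroupOf (tor x r)) ⟨y, hy⟩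
    (fun v => nrm_mem_center hS hx hr hrp l' hlc (pow_mem_cen hxq hl) v) (fun j => by
      rw [← map_pow, ← map_mul]
      exact nrm_mem_center hS hx hr hrp (k' * l' ^ j) (by simpa [k', l'] using hkl j)
        (by simpa [k', l'] using pow_mem_cen hxq (mul_mem hk (pow_mem hl j))) _)
  have hyq : y ^ q ∈ Subgroup.center G := hmem
  obtain ⟨j, hj⟩ := (isQ_of_mem_tor hS hx hr hrp hy).orderOf_dvd
  exact hyc (mem_center_of_pow
    ((((Nat.coprime_primes hq hr).2 hrq.symm).pow_right j).of_dvd_right hj) hyq)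

/-- The prime `q` divides the class sizes. -/
def Fail (p q : ℕ) (G : Type*) [Group G] : Prop := ∃ x : G, Non p x ∧ q ∣ (cen x).index

theorem Fail.lt (hS : Setup p G) {q : ℕ} (hq : q.Prime) (hf : Fail p q G) {x : G} (hx : Non p x) :
    (Nat.card (cen x)).factorization q < (Nat.card G).factorization q := by
  obtain ⟨y, hy, hd⟩ := hf
  rw [← Subgroup.card_mul_index (cen y), Nat.factorization_mul Nat.card_pos.ne'
    Subgroup.index_ne_zero_of_finite, hS.hyp y x hy hx, Finsupp.add_apply]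
  have := hq.factorization_pos_of_dvd Subgroup.index_ne_zero_of_finite hd
  omega

theorem not_le_cen (hS : Setup p G) {q : ℕ} [hq : Fact q.Prime] (hf : Fail p q G) (Q : Sylow q G)
    {x : G} (hx : Non p x) : ¬ (Q : Subgroup G) ≤ cen x := by
  intro hle
  have h := Subgroup.card_dvd_of_le hle
  rw [Q.card_eq_multiplicity, hq.out.pow_dvd_iff_le_factorization Nat.card_pos.ne'] at h
  exact absurd (hf.lt hS hq.out hx) (by omega)

theorem mem_center_of_commute_sylow (hS : Setup p G) {q : ℕ} [hq : Fact q.Prime] (hqp : q ≠ p)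
    (hf : Fail p q G) (Q : Sylow q G) {u : G} (hu : u ∈ (Q : Subgroup G))
    (hc : ∀ k ∈ (Q : Subgroup G), k * u = u * k) : u ∈ Subgroup.center G := by
  by_contra huc
  exact not_le_cen hS hf Q (non_of_isQ hS.hp hq.out hqp (isQ_of_mem Q.isPGroup' hu) huc)
    fun k hk => mem_cen.2 (hc k hk)

/-- An element of order `q` modulo the centre, central in the Sylow subgroup modulo the centre. -/
theorem exists_pivot (hS : Setup p G) {q : ℕ} [hq : Fact q.Prime] (hqp : q ≠ p) (hf : Fail p q G)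
    (Q : Sylow q G) {S : Subgroup G} (hSQ : S ≤ (Q : Subgroup G))
    (hSn : ∀ k ∈ (Q : Subgroup G), ∀ s ∈ S, k * s * k⁻¹ ∈ S) (hSc : ¬ S ≤ Subgroup.center G) :
    ∃ x ∈ S, x ∉ Subgroup.center G ∧ x ^ q ∈ Subgroup.center G ∧ (Q : Subgroup G) ≤ mX x := by
  obtain ⟨s, hs, hsc⟩ := SetLike.not_le_iff_exists.1 hSc
  haveI := Q.isPGroup'.isNilpotent
  obtain ⟨n, hn⟩ := Group.IsNilpotent.nilpotent (G := ↥(Q : Subgroup G))
  have key : ∀ (n : ℕ) (u : ↥(Q : Subgroup G)), (u : G) ∈ S → (u : G) ∉ Subgroup.center G →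
      u ∈ Subgroup.upperCentralSeries ↥(Q : Subgroup G) n →
      ∃ x ∈ S, x ∉ Subgroup.center G ∧ (Q : Subgroup G) ≤ mX x := by
    intro n
    induction n with
    | zero =>
      intro u _ huc hu
      rw [Subgroup.upperCentralSeries_zero, Subgroup.mem_bot] at hu
      exact absurd (by rw [hu]; exact one_mem _) huc
    | succ n ih =>
      intro u hus huc hu
      by_cases hall : (Q : Subgroup G) ≤ mX (u : G)
      · exact ⟨u, hus, huc, hall⟩
      obtain ⟨k, hk, hkm⟩ := SetLike.not_le_iff_exists.1 hall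
      have h := Subgroup.mem_upperCentralSeries_succ_iff.1 hu ⟨k, hk⟩
      refine ih _ ?_ ?_ h
      · have e : ((u * ⟨k, hk⟩ * u⁻¹ * (⟨k, hk⟩ : ↥(Q : Subgroup G))⁻¹ :
            ↥(Q : Subgroup G)) : G) = (u : G) * (k * (u : G)⁻¹ * k⁻¹) := by
          simp [mul_assoc]
        rw [commutatorElement_def, e]
        exact mul_mem hus (hSn k hk _ (inv_mem hus))
      · intro hcz
        refine hkm (mem_mX_symm ?_)
        rw [mem_mX, cm]
        simpa [commutatorElement_def] using hcz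
  obtain ⟨x, hxS, hxc, hQx⟩ := key n ⟨s, hSQ hs⟩ hs hsc (hn ▸ Subgroup.mem_top _)
  obtain ⟨a, ha⟩ := isQ_of_mem Q.isPGroup' (hSQ hxS)
  classical
  have hex : ∃ j, x ^ q ^ j ∈ Subgroup.center G := ⟨a, by rw [ha]; exact one_mem _⟩
  obtain ⟨j, hj⟩ : ∃ j, Nat.find hex = j + 1 := by
    refine Nat.exists_eq_succ_of_ne_zero fun h0 => hxc ?_
    have := Nat.find_spec hex
    rwa [h0, pow_zero, pow_one] at this
  refine ⟨x ^ q ^ j, pow_mem hxS _, Nat.find_min hex (by omega), ?_, fun k hk =>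
    mem_mX_pow (hQx hk) _⟩
  rw [← pow_mul, ← pow_succ, ← hj]
  exact Nat.find_spec hex

theorem tor_le_sylow (hS : Setup p G) {q : ℕ} [hq : Fact q.Prime] (hqp : q ≠ p) (Q : Sylow q G)
    {x : G} (hx : Non p x) (hQx : (Q : Subgroup G) ≤ nC x) : tor x q ≤ (Q : Subgroup G) := by
  have hT : IsPGroup q (tor x q) :=
    isPGroup_of_forall fun u hu => isQ_of_mem_tor hS hx hq.out hqp hu
  have h := Q.is_maximal' (Q.isPGroup'.to_sup_of_normal_right' hT
    (hQx.trans (nC_le_normalizer_tor x q))) le_sup_left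
  exact h ▸ le_sup_right

theorem exists_mul_of_pivot (hS : Setup p G) {q : ℕ} [hq : Fact q.Prime] (hqp : q ≠ p)
    (Q : Sylow q G) {x : G} (hx : Non p x) (hxq : x ^ q ∈ Subgroup.center G)
    (hQx : (Q : Subgroup G) ≤ mX x) {g : G} (hg : g ∈ (Q : Subgroup G)) (hgx : g ∉ tor x q)
    {l : G} (hl : l ∈ (Q : Subgroup G)) : ∃ i, i < q ∧ l * (g ^ i)⁻¹ ∈ tor x q := by
  have hgc : g ∉ cen x := fun h => hgx (mem_tor_of h (isQ_of_mem Q.isPGroup' hg))
  obtain ⟨i, hi, h⟩ := exists_pow_mem_cen hS hq.out hx hxq (hQx hg) (hQx hl) hgc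
  exact ⟨i, hi, mem_tor_of h (isQ_of_mem Q.isPGroup' (mul_mem hl (inv_mem (pow_mem hg i))))⟩

theorem exists_outside (hS : Setup p G) {q : ℕ} [hq : Fact q.Prime] (hf : Fail p q G)
    (Q : Sylow q G) {x : G} (hx : Non p x) : ∃ g ∈ (Q : Subgroup G), g ∉ tor x q :=
  SetLike.not_le_iff_exists.1 fun h => not_le_cen hS hf Q hx (h.trans (tor_le x q))

theorem factorization_fail (hS : Setup p G) {q : ℕ} [hq : Fact q.Prime] (hqp : q ≠ p)
    (hf : Fail p q G) {x : G} (hx : Non p x) :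
    (Nat.card G).factorization q = (Nat.card (cen x)).factorization q + 1 := by
  obtain ⟨Q⟩ : Nonempty (Sylow q G) := inferInstance
  have hQc : ¬ (Q : Subgroup G) ≤ Subgroup.center G := fun h =>
    not_le_cen hS hf Q hx (h.trans (center_le_cen x))
  obtain ⟨x₀, hx₀Q, hx₀c, hx₀q, hQx⟩ := exists_pivot hS hqp hf Q le_rfl
    (fun k hk s hs => mul_mem (mul_mem hk hs) (inv_mem hk)) hQc
  have hx₀ : Non p x₀ := non_of_isQ hS.hp hq.out hqp (isQ_of_mem Q.isPGroup' hx₀Q) hx₀c
  obtain ⟨g, hg, hgx⟩ := exists_outside hS hf Q hx₀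
  have hsub : ∀ l : ↥(Q : Subgroup G), ∃ a : Fin q × tor x₀ q, (l : G) = a.2 * g ^ (a.1 : ℕ) := by
    intro l
    obtain ⟨i, hi, h⟩ := exists_mul_of_pivot hS hqp Q hx₀ hx₀q hQx hg hgx l.2
    exact ⟨(⟨i, hi⟩, ⟨_, h⟩), by simp⟩
  choose f hf' using hsub
  have hinj : Function.Injective f := fun a b e => Subtype.ext (by rw [hf' a, hf' b, e])
  have h := Nat.card_le_card_of_injective f hinj
  rw [Nat.card_prod, Nat.card_fin, card_tor hS hx₀ hq.out hqp, Q.card_eq_multiplicity,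
    hS.hyp x₀ x hx₀ hx, ← pow_succ'] at h
  have h2 := (Nat.pow_le_pow_iff_right hq.out.one_lt).1 h
  have h3 := hf.lt hS hq.out hx
  omega

theorem pow_mem_center_of_outside (hS : Setup p G) {q : ℕ} [hq : Fact q.Prime] (hqp : q ≠ p)
    {x : G} (hx : Non p x) (hxq : x ^ q ∈ Subgroup.center G) {g : G} (hgQ : IsQ q g)
    (hg : g ∈ mX x) (hgx : g ∉ tor x q) : g ^ q ∈ Subgroup.center G := by
  by_contra hc
  have hn : Non p (g ^ q) := non_of_isQ hS.hp hq.out hqp (hgQ.pow q) hc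
  have e := cen_eq hS hx hn (pow_mem_cen hxq hg)
  refine hgx (mem_tor_of (e ▸ mem_cen.2 ?_) hgQ)
  rw [← pow_succ, ← pow_succ']

/-- Only the powers of `x` modulo the centre are fixed by `g` in the abelian subgroup. -/
theorem exists_pow_of_fixed (hS : Setup p G) {q : ℕ} [hq : Fact q.Prime] (hqp : q ≠ p)
    {x : G} (hx : Non p x) (hxq : x ^ q ∈ Subgroup.center G) (hxQ : IsQ q x) {g : G}
    (hgQ : IsQ q g) (hg : g ∈ mX x) (hgx : g ∉ tor x q) {a : G} (ha : a ∈ tor x q)
    (hga : g ∈ mX a) : ∃ i < q, a * (x ^ i)⁻¹ ∈ Subgroup.center G := by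
  have hgc : g ∉ cen x := fun h => hgx (mem_tor_of h hgQ)
  have hgn : Non p g := non_of_isQ hS.hp hq.out hqp hgQ fun h => hgc (center_le_cen x h)
  obtain ⟨i, hi, h⟩ := exists_pow_mem_cen hS hq.out hgn
    (pow_mem_center_of_outside hS hqp hx hxq hgQ hg hgx) (mem_mX_symm hg) (mem_mX_symm hga)
    (fun h => hgc (mem_cen_symm h))
  refine ⟨i, hi, ?_⟩
  by_contra hc
  have hmem : a * (x ^ i)⁻¹ ∈ tor x q :=
    mul_mem ha (inv_mem (pow_mem (mem_tor_of (self_mem_cen x) hxQ) i))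
  exact hgc (cen_eq_of_mem_tor hS hx hq.out hqp hmem hc ▸ mem_cen_symm h)

end Cfsg.Agent.RegTwoSizes
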