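import Mathlib
import Cfsg.Agent.Lib.RegTwoSizes.Local

/-!
# The centralisers of noncentral `p`-regular elements are conjugate
-/

set_option autoImplicit false
set_option linter.unusedSectionVars false

namespace Cfsg.Agent.RegTwoSizes

open Subgroup
open scoped Pointwise

variable {G : Type*} [Group G] {p : ℕ}

theorem cen_conj_congr {u v h : G} (e : cen u = cen v) :
    cen (h * u * h⁻¹) = cen (h * v * h⁻¹) := by
  ext w
  rw [mem_cen_conj, mem_cen_conj, e]

theorem nC_congr {u v : G} (e : cen u = cen v) : nC u = nC v := by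
  simp only [nC, e]

theorem dvd_of_pow_mem {H : Subgroup G} [H.Normal] {q : ℕ} [Fact q.Prime] {w : G} (hw : w ∉ H)
    (hwq : w ^ q ∈ H) {m : ℕ} (hm : w ^ m ∈ H) : q ∣ m := by
  have h : orderOf (QuotientGroup.mk w : G ⧸ H) = q := orderOf_eq_prime
    (by rw [← QuotientGroup.mk_pow, QuotientGroup.eq_one_iff]; exact hwq)
    (by rw [ne_eq, QuotientGroup.eq_one_iff]; exact hw)
  rw [← h]
  exact orderOf_dvd_of_pow_eq_one (by rw [← QuotientGroup.mk_pow, QuotientGroup.eq_one_iff]; exact hm)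

variable [Finite G]

theorem exists_pow_of_index_prime {H : Subgroup G} [H.Normal] {q : ℕ} [hq : Fact q.Prime]
    (hH : H.index = q) {w : G} (hw : w ∉ H) (a : G) : ∃ i : ℕ, a * (w ^ i)⁻¹ ∈ H := by
  have hne : (QuotientGroup.mk w : G ⧸ H) ≠ 1 := by rwa [ne_eq, QuotientGroup.eq_one_iff]
  have h := mem_powers_of_prime_card (G := G ⧸ H) (p := q) hH (g' := (QuotientGroup.mk a : G ⧸ H)) hne
  obtain ⟨i, hi⟩ := Submonoid.mem_powers_iff _ _ |>.1 h
  refine ⟨i, ?_⟩
  rw [← QuotientGroup.eq_one_iff, QuotientGroup.mk_mul, QuotientGroup.mk_inv, QuotientGroup.mk_pow,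
    hi, mul_inv_cancel]

theorem not_fail_factorization (hS : Setup p G) {r : ℕ} (hr : r.Prime) (hf : ¬ Fail p r G) {x : G}
    (hx : Non p x) : (Nat.card (cen x)).factorization r = (Nat.card G).factorization r := by
  have hd : ¬ r ∣ (cen x).index := fun h => hf ⟨x, hx, h⟩
  rw [← Subgroup.card_mul_index (cen x), Nat.factorization_mul Nat.card_pos.ne'
    Subgroup.index_ne_zero_of_finite, Finsupp.add_apply, Nat.factorization_eq_zero_of_not_dvd hd,
    add_zero]

/-- All these centralisers are conjugate. -/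
def OneClass (p : ℕ) (G : Type*) [Group G] : Prop :=
  ∀ x y : G, Non p x → Non p y → ∃ h : G, cen y = cen (h * x * h⁻¹)

theorem oneClass_of_not_fail (hS : Setup p G) {r : ℕ} (hr : r.Prime) (hrp : r ≠ p)
    (hR : HasNon G r) (hf : ¬ Fail p r G) : OneClass p G := by
  haveI := Fact.mk hr
  intro x y hx hy
  have hcard : ∀ z : G, Non p z → Nat.card (tor z r) = r ^ (Nat.card G).factorization r :=
    fun z hz => by rw [card_tor hS hz hr hrp, not_fail_factorization hS hr hf hz]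
  let Sx : Sylow r G := Sylow.ofCard (tor x r) (hcard x hx)
  let Sy : Sylow r G := Sylow.ofCard (tor y r) (hcard y hy)
  obtain ⟨h, hh⟩ := MulAction.exists_smul_eq G Sx Sy
  obtain ⟨u, hu, huc⟩ := exists_tor_non hS hx hr hrp hR
  have hu' : h * u * h⁻¹ ∈ tor y r := by
    have : MulAut.conj h • u ∈ MulAut.conj h • (Sx : Subgroup G) :=
      Subgroup.smul_mem_pointwise_smul _ _ _ hu
    rw [← Sylow.coe_subgroup_smul, hh] at this
    exact this
  refine ⟨h, ?_⟩
  rw [← cen_eq_of_mem_tor hS hy hr hrp hu' (fun e => huc (conj_mem_center.1 e))]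
  exact cen_conj_congr (cen_eq_of_mem_tor hS hx hr hrp hu huc)

theorem relIndex_center_tor (hS : Setup p G) {q : ℕ} (hq : q.Prime) (hqp : q ≠ p) {x y : G}
    (hx : Non p x) (hy : Non p y) :
    (Subgroup.center G).relIndex (tor x q) = (Subgroup.center G).relIndex (tor y q) := by
  have hinf : ∀ {a b : G}, Non p a → Non p b →
      Subgroup.center G ⊓ tor a q ≤ Subgroup.center G ⊓ tor b q := fun {a b} ha _ u hu =>
    ⟨hu.1, mem_tor_of (center_le_cen b hu.1) (isQ_of_mem_tor hS ha hq hqp hu.2)⟩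
  have e : Subgroup.center G ⊓ tor x q = Subgroup.center G ⊓ tor y q :=
    le_antisymm (hinf hx hy) (hinf hy hx)
  rw [← Subgroup.inf_relIndex_right, ← Subgroup.inf_relIndex_right (Subgroup.center G) (tor y q), e]
  have h1 := Subgroup.relIndex_mul_relIndex ⊥ (Subgroup.center G ⊓ tor y q) (tor y q) bot_le
    inf_le_right
  have h2 := Subgroup.relIndex_mul_relIndex ⊥ (Subgroup.center G ⊓ tor y q) (tor x q) bot_le
    (e ▸ inf_le_right)
  rw [Subgroup.relIndex_bot_left, Subgroup.relIndex_bot_left, card_tor hS hy hq hqp] at h1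
  rw [Subgroup.relIndex_bot_left, Subgroup.relIndex_bot_left, card_tor hS hx hq hqp,
    hS.hyp x y hx hy, ← h1] at h2
  exact Nat.eq_of_mul_eq_mul_left Nat.card_pos h2

theorem oneClass (hS : Setup p G) : OneClass p G := by
  by_cases hex : ∃ r, r.Prime ∧ r ≠ p ∧ HasNon G r ∧ ¬ Fail p r G
  · obtain ⟨r, hr, hrp, hR, hf⟩ := hex
    exact oneClass_of_not_fail hS hr hrp hR hf
  push Not at hex
  obtain ⟨q₀, r₀, hq₀, hr₀, hq₀p, hr₀p, hne, hQ₀, hR₀⟩ := hS.two
  obtain ⟨q, r, hq, hr, hqp, hrp, hlt, hQn, hRn⟩ : ∃ q r : ℕ, q.Prime ∧ r.Prime ∧ q ≠ p ∧ r ≠ p ∧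
      q < r ∧ HasNon G q ∧ HasNon G r := by
    rcases hne.lt_or_gt with h | h
    · exact ⟨_, _, hq₀, hr₀, hq₀p, hr₀p, h, hQ₀, hR₀⟩
    · exact ⟨_, _, hr₀, hq₀, hr₀p, hq₀p, h, hR₀, hQ₀⟩
  haveI := Fact.mk hq
  haveI := Fact.mk hr
  have hfq := hex q hq hqp hQn
  have hfr := hex r hr hrp hRn
  obtain ⟨xr, hxr⟩ : ∃ x : G, Non p x := by
    obtain ⟨x, hx, hxc⟩ := hRn
    exact ⟨x, non_of_isQ hS.hp hr hrp hx hxc⟩
  intro a b ha hb
  by_contra hcon
  push Not at hcon
  -- both subgroups move into one Sylow subgroup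
  obtain ⟨Q⟩ : Nonempty (Sylow q G) := inferInstance
  have hQc : ¬ (Q : Subgroup G) ≤ Subgroup.center G := fun h =>
    not_le_cen hS hfq Q hxr (h.trans (center_le_cen xr))
  obtain ⟨x, hxQ, hxc, hxq, hQx⟩ := exists_pivot hS hqp hfq Q le_rfl
    (fun k hk s hs => mul_mem (mul_mem hk hs) (inv_mem hk)) hQc
  have hx : Non p x := non_of_isQ hS.hp hq hqp (isQ_of_mem Q.isPGroup' hxQ) hxc
  have hmove : ∀ c : G, Non p c → ∃ h : G, tor (h * c * h⁻¹) q ≤ (Q : Subgroup G) := by
    intro c hc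
    have hT : IsPGroup q (tor c q) := isPGroup_of_forall fun u hu => isQ_of_mem_tor hS hc hq hqp hu
    obtain ⟨Q', hQ'⟩ := hT.exists_le_sylow
    obtain ⟨h, hh⟩ := MulAction.exists_smul_eq G Q' Q
    refine ⟨h, fun u hu => ?_⟩
    have hu' : h⁻¹ * u * h ∈ tor c q := by
      have := conj_mem_tor (h := h⁻¹) hu
      simpa [mul_assoc] using this
    have : MulAut.conj h • (h⁻¹ * u * h) ∈ MulAut.conj h • (Q' : Subgroup G) :=
      Subgroup.smul_mem_pointwise_smul _ _ _ (hQ' hu')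
    rw [← Sylow.coe_subgroup_smul, hh] at this
    simpa [MulAut.smul_def, mul_assoc] using this
  obtain ⟨y, hy, hyQ, hyx⟩ : ∃ y : G, Non p y ∧ tor y q ≤ (Q : Subgroup G) ∧ cen y ≠ cen x := by
    obtain ⟨h₁, h₁'⟩ := hmove a ha
    obtain ⟨h₂, h₂'⟩ := hmove b hb
    by_contra hall
    push Not at hall
    have e := (hall _ (hb.conj h₂) h₂').trans (hall _ (ha.conj h₁) h₁').symm
    refine hcon (h₂⁻¹ * h₁) ?_
    have := cen_conj_congr (h := h₂⁻¹) e
    simpa [mul_assoc] using this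
  obtain ⟨g, hgy, hgc⟩ := exists_tor_non hS hy hq hqp hQn
  have hgx : g ∉ tor x q := fun h => hyx ((cen_eq_of_mem_tor hS hy hq hqp hgy hgc).symm.trans
    (cen_eq_of_mem_tor hS hx hq hqp h hgc))
  have hgq : g ^ q ∈ Subgroup.center G := pow_mem_center_of_outside hS hqp hx hxq
    (isQ_of_mem_tor hS hy hq hqp hgy) (hQx (hyQ hgy)) hgx
  haveI : ∀ c : G, ((Subgroup.center G).subgroupOf (tor c q)).Normal := fun c => inferInstance
  have hsmall : (Subgroup.center G).relIndex (tor y q) = q := by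
    have hle : ∀ l : tor y q, ∃ i < q, (l : G) * (g ^ i)⁻¹ ∈ Subgroup.center G := by
      intro l
      obtain ⟨i, hi, h⟩ := exists_mul_of_pivot hS hqp Q hx hxq hQx (hyQ hgy) hgx (hyQ l.2)
      refine ⟨i, hi, ?_⟩
      by_contra hc
      have hm : (l : G) * (g ^ i)⁻¹ ∈ tor y q := mul_mem l.2 (inv_mem (pow_mem hgy i))
      exact hyx ((cen_eq_of_mem_tor hS hy hq hqp hm hc).symm.trans
        (cen_eq_of_mem_tor hS hx hq hqp h hc))
    choose f hf hf' using hle
    let C := (Subgroup.center G).subgroupOf (tor y q)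
    have hsurj : Function.Surjective fun i : Fin q =>
        (QuotientGroup.mk ((⟨g, hgy⟩ : tor y q) ^ (i : ℕ)) : tor y q ⧸ C) := by
      intro c
      induction c using QuotientGroup.induction_on with
      | H l =>
        refine ⟨⟨f l, hf l⟩, ?_⟩
        rw [QuotientGroup.eq]
        show _ ∈ (Subgroup.center G).subgroupOf (tor y q)
        rw [Subgroup.mem_subgroupOf]
        push_cast
        have h := hf' l
        have e : (g ^ f l)⁻¹ * (l : G) = (g ^ f l)⁻¹ * ((l : G) * (g ^ f l)⁻¹) * g ^ f l := by group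
        rw [e, mul_assoc, ← Subgroup.mem_center_iff.1 h (g ^ f l), inv_mul_cancel_left]
        exact h
    have h1 : C.index ≤ q := by
      have := Nat.card_le_card_of_surjective _ hsurj
      rwa [Nat.card_fin, ← Subgroup.index_eq_card] at this
    have h2 : q ∣ C.index := by
      have hg' : (⟨g, hgy⟩ : tor y q) ∉ C := hgc
      refine dvd_of_pow_mem hg' ?_ (Subgroup.pow_index_mem C _)
      show _ ∈ (Subgroup.center G).subgroupOf (tor y q)
      simpa [Subgroup.mem_subgroupOf] using hgq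
    exact le_antisymm h1 (Nat.le_of_dvd (Nat.pos_of_ne_zero Subgroup.index_ne_zero_of_finite) h2)
  -- the Sylow subgroup for the larger prime cannot act on so small a group
  obtain ⟨R⟩ : Nonempty (Sylow r G) := inferInstance
  have hRc : ¬ (R : Subgroup G) ≤ Subgroup.center G := fun h =>
    not_le_cen hS hfr R hxr (h.trans (center_le_cen xr))
  obtain ⟨x', hx'R, hx'c, hx'q, hRx⟩ := exists_pivot hS hrp hfr R le_rfl
    (fun k hk s hs => mul_mem (mul_mem hk hs) (inv_mem hk)) hRc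
  have hx' : Non p x' := non_of_isQ hS.hp hr hrp (isQ_of_mem R.isPGroup' hx'R) hx'c
  obtain ⟨k, hk, hkx⟩ := exists_outside hS hfr R hx'
  have hkc : k ∉ cen x' := fun h => hkx (mem_tor_of h (isQ_of_mem R.isPGroup' hk))
  obtain ⟨w, hw, hwc⟩ := exists_tor_non hS hx' hq hqp hQn
  have hidx : ((Subgroup.center G).subgroupOf (tor x' q)).index = q :=
    (relIndex_center_tor hS hq hqp hx' hy).trans hsmall
  have hkN : k ∈ nC x' := mX_le_nC x' (hRx hk)
  have hw' : (⟨w, hw⟩ : tor x' q) ∉ (Subgroup.center G).subgroupOf (tor x' q) := hwc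
  have hcls : ∀ v : tor x' q, ∃ i : ℕ, (v : G) * (w ^ i)⁻¹ ∈ Subgroup.center G := by
    intro v
    obtain ⟨i, hi⟩ := exists_pow_of_index_prime hidx hw' v
    exact ⟨i, by simpa [Subgroup.mem_subgroupOf] using hi⟩
  obtain ⟨m, hm⟩ := hcls ⟨k * w * k⁻¹, conj_mem_tor_of_nC hkN hw⟩
  have hiter : ∀ j : ℕ, k ^ j * w * (k ^ j)⁻¹ * (w ^ (m ^ j))⁻¹ ∈ Subgroup.center G := by
    intro j
    induction j with
    | zero => simp
    | succ j ih =>
      set z := k ^ j * w * (k ^ j)⁻¹ * (w ^ (m ^ j))⁻¹ with hz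
      set z₁ := k * w * k⁻¹ * (w ^ m)⁻¹ with hz₁
      have e1 : k ^ j * w * (k ^ j)⁻¹ = z * w ^ (m ^ j) := by rw [hz, inv_mul_cancel_right]
      have e2 : (k * w * k⁻¹) ^ (m ^ j) = z₁ ^ (m ^ j) * w ^ (m ^ (j + 1)) := by
        rw [show k * w * k⁻¹ = z₁ * w ^ m by rw [hz₁, inv_mul_cancel_right],
          (show Commute z₁ (w ^ m) from (Subgroup.mem_center_iff.1 hm _).symm).mul_pow, ← pow_mul,
          ← pow_succ']
      have e3 : k ^ (j + 1) * w * (k ^ (j + 1))⁻¹ = z * (z₁ ^ (m ^ j) * w ^ (m ^ (j + 1))) := by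
        rw [← e2, pow_succ', mul_inv_rev,
          show k * k ^ j * w * ((k ^ j)⁻¹ * k⁻¹) = k * (k ^ j * w * (k ^ j)⁻¹) * k⁻¹ by group,
          e1, ← mul_assoc, Subgroup.mem_center_iff.1 ih k, conj_pow]
        group
      rw [e3, ← mul_assoc, mul_inv_cancel_right]
      exact mul_mem ih (pow_mem hm _)
  have hkr : k ^ r ∈ cen x' := pow_mem_cen hx'q (hRx hk)
  have hwq : w ^ q ∈ Subgroup.center G := by
    have h := Subgroup.pow_index_mem ((Subgroup.center G).subgroupOf (tor x' q)) ⟨w, hw⟩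
    rw [hidx] at h
    simpa [Subgroup.mem_subgroupOf] using h
  have hmr : ((m : ZMod q)) ^ r = 1 := by
    have h := hiter r
    have hfix : k ^ r * w * (k ^ r)⁻¹ = w := by
      rw [← (commute_of_mem hS hx' (tor_le x' q hw) (reg_of_mem_tor hS hx' hq hqp hw) hkr).eq,
        mul_inv_cancel_right]
    rw [hfix] at h
    rcases Nat.eq_zero_or_pos m with rfl | hm0
    · exfalso
      rw [zero_pow hr.ne_zero, pow_zero, inv_one, mul_one] at h
      exact hwc h
    have h1 : 1 ≤ m ^ r := Nat.one_le_pow _ _ hm0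
    have h' : w ^ (m ^ r - 1) ∈ Subgroup.center G := by
      rw [← Subgroup.inv_mem_iff]
      convert h using 1
      rw [← pow_sub_mul_pow w h1, pow_one, mul_inv_rev, ← mul_assoc, mul_inv_cancel, one_mul]
    have hd := dvd_of_pow_mem hwc hwq h'
    rw [← CharP.cast_eq_zero_iff (ZMod q) q, Nat.cast_sub h1, Nat.cast_pow, Nat.cast_one,
      sub_eq_zero] at hd
    exact hd
  have hm1 : ((m : ZMod q)) = 1 := by
    have hm0 : ((m : ZMod q)) ≠ 0 := fun h => by
      rw [h, zero_pow hr.ne_zero] at hmr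
      exact zero_ne_one hmr
    have h := pow_gcd_eq_one.2 ⟨hmr, ZMod.pow_card_sub_one_eq_one hm0⟩
    rwa [Nat.Coprime.gcd_eq_one (hr.coprime_iff_not_dvd.2
      (Nat.not_dvd_of_pos_of_lt (by have := hq.two_le; omega) (by omega))), pow_one] at h
  have hkw : k ∈ mX w := by
    rw [mem_mX, cm]
    obtain ⟨t, ht⟩ : ∃ t, m = 1 + q * t := by
      refine ⟨m / q, ?_⟩
      have h1 : m % q = 1 := by
        have := congrArg ZMod.val hm1
        rwa [ZMod.val_natCast, ZMod.val_one] at this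
      conv_lhs => rw [← Nat.mod_add_div m q, h1]
    have e : k * w * k⁻¹ * w⁻¹ = (k * w * k⁻¹ * (w ^ m)⁻¹) * (w ^ q) ^ t := by
      rw [ht, pow_add, pow_one, pow_mul]
      group
    rw [e]
    exact mul_mem hm (pow_mem hwq t)
  exact hkc (mem_cen_of_fixed_mod hS hx' hq hqp hw hwc hkw hkr fun hd =>
    hlt.ne ((Nat.prime_dvd_prime_iff_eq hq hr).1 hd))

theorem mem_nC_conj {x h k : G} : k ∈ nC (h * x * h⁻¹) ↔ h⁻¹ * k * h ∈ nC x := by
  rw [mem_nC_iff, mem_nC_iff]
  constructor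
  · intro e
    have := cen_conj_congr (h := h⁻¹) e
    simpa [mul_assoc] using this
  · intro e
    have := cen_conj_congr (h := h) e
    simpa [mul_assoc] using this

theorem exists_sylow_le_nC (hS : Setup p G) (hc : OneClass p G) {x : G} (hx : Non p x) {l : ℕ}
    [hl : Fact l.Prime] (hlp : l ≠ p) : ∃ L : Sylow l G, (L : Subgroup G) ≤ nC x := by
  by_cases hf : Fail p l G
  · obtain ⟨L⟩ : Nonempty (Sylow l G) := inferInstance
    have hLc : ¬ (L : Subgroup G) ≤ Subgroup.center G := fun h =>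
      not_le_cen hS hf L hx (h.trans (center_le_cen x))
    obtain ⟨y, hyL, hyc, -, hLy⟩ := exists_pivot hS hlp hf L le_rfl
      (fun k hk s hs => mul_mem (mul_mem hk hs) (inv_mem hk)) hLc
    obtain ⟨h, hh⟩ := hc x y hx (non_of_isQ hS.hp hl.out hlp (isQ_of_mem L.isPGroup' hyL) hyc)
    refine ⟨h⁻¹ • L, fun u hu => ?_⟩
    rw [Sylow.coe_subgroup_smul, Subgroup.mem_pointwise_smul_iff_inv_smul_mem] at hu
    have hu' : h * u * h⁻¹ ∈ (L : Subgroup G) := by
      simpa [MulAut.smul_def, mul_assoc] using hu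
    have := (nC_congr hh) ▸ mX_le_nC y (hLy hu')
    rw [mem_nC_conj] at this
    simpa [mul_assoc] using this
  · exact ⟨Sylow.ofCard (tor x l)
      (by rw [card_tor hS hx hl.out hlp, not_fail_factorization hS hl.out hf hx]),
      (tor_le x l).trans (cen_le_nC x)⟩

theorem index_nC (hS : Setup p G) (hc : OneClass p G) {x : G} (hx : Non p x) :
    ∃ k, (nC x).index = p ^ k := by
  refine ⟨_, Nat.eq_prime_pow_of_unique_prime_dvd Subgroup.index_ne_zero_of_finite ?_⟩
  intro l hl hd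
  by_contra hlp
  haveI := Fact.mk hl
  obtain ⟨L, hL⟩ := exists_sylow_le_nC hS hc hx (l := l) hlp
  exact L.not_dvd_index (hd.trans (Subgroup.index_dvd_of_le hL))

end Cfsg.Agent.RegTwoSizes
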