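import Mathlib
import Cfsg.Agent.Lib.RegTwoSizes.OneClass

/-!
# The pivot is central modulo the centre in the normaliser of its centraliser
-/

set_option autoImplicit false
set_option linter.unusedSectionVars false

namespace Cfsg.Agent.RegTwoSizes

open Subgroup

theorem prod_eq_one_of_free {X : Type*} [DecidableEq X] {M : Type*} [CommMonoid M] {q : ℕ}
    [Fact q.Prime] (e : Equiv.Perm X) (he : e ^ q = 1) (f : X → M)
    (horb : ∀ c, ∏ a : ZMod q, f ((e ^ a.val) c) = 1) :
    ∀ s : Finset X, (∀ c ∈ s, e c ∈ s ∧ e c ≠ c) → ∏ c ∈ s, f c = 1 := by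
  intro s
  induction s using Finset.strongInductionOn with
  | _ s ih =>
    intro hs
    rcases s.eq_empty_or_nonempty with rfl | ⟨c, hc⟩
    · exact Finset.prod_empty
    have hinj : Function.Injective fun a : ZMod q => (e ^ a.val) c := by
      intro a b hab
      simp only at hab
      by_contra hne
      have h1 := congrArg (e ^ (-b).val) hab
      rw [← Equiv.Perm.mul_apply, ← Equiv.Perm.mul_apply, ← pow_add, ← pow_add, ← pow_val_add he,
        ← pow_val_add he, neg_add_cancel, ZMod.val_zero, pow_zero, Equiv.Perm.one_apply,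
        neg_add_eq_sub] at h1
      have hd : a - b ≠ 0 := sub_ne_zero.2 hne
      have h2 : ∀ n : ℕ, ((e ^ (a - b).val) ^ n) c = c := by
        intro n
        induction n with
        | zero => simp
        | succ n ihn => rw [pow_succ, Equiv.Perm.mul_apply, h1, ihn]
      have h3 := h2 ((a - b)⁻¹).val
      rw [← pow_mul, ← pow_val_mul he, mul_inv_cancel₀ hd, ZMod.val_one, pow_one] at h3
      exact (hs c hc).2 h3
    set O := (Finset.univ : Finset (ZMod q)).image fun a => (e ^ a.val) c with hO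
    have hOs : O ⊆ s := by
      intro d hd
      obtain ⟨a, -, rfl⟩ := Finset.mem_image.1 hd
      induction a.val with
      | zero => simpa using hc
      | succ n ihn => rw [pow_succ', Equiv.Perm.mul_apply]; exact (hs _ ihn).1
    have hOc : c ∈ O := Finset.mem_image.2 ⟨0, Finset.mem_univ _, by simp⟩
    have hback : ∀ d, e d ∈ O → d ∈ O := by
      intro d hd
      obtain ⟨a, -, ha⟩ := Finset.mem_image.1 hd
      refine Finset.mem_image.2 ⟨a - 1, Finset.mem_univ _, e.injective ?_⟩
      rw [← ha, ← Equiv.Perm.mul_apply, ← pow_succ']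
      conv_rhs => rw [← sub_add_cancel a 1, pow_val_add he, ZMod.val_one]
    rw [← Finset.prod_sdiff hOs,
      ih (s \ O) (Finset.sdiff_ssubset hOs ⟨c, hOc⟩) (fun d hd => by
        rw [Finset.mem_sdiff] at hd ⊢
        exact ⟨⟨(hs d hd.1).1, fun h => hd.2 (hback d h)⟩, (hs d hd.1).2⟩),
      Finset.prod_image fun a _ b _ h => hinj h, horb c, one_mul]

variable {G : Type*} [Group G] [Finite G] {p : ℕ}

theorem conj_pow_pivot {x k : G} {q u : ℕ} [Fact q.Prime] (hxq : x ^ q ∈ Subgroup.center G)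
    (h : k * x * k⁻¹ * (x ^ u)⁻¹ ∈ Subgroup.center G) (j : ℕ) :
    k ^ j * x * (k ^ j)⁻¹ * (x ^ (((u : ZMod q)) ^ j).val)⁻¹ ∈ Subgroup.center G := by
  have hmod : ∀ n : ℕ, x ^ n * (x ^ ((n : ZMod q)).val)⁻¹ ∈ Subgroup.center G := by
    intro n
    rw [ZMod.val_natCast]
    have hz := pow_mem hxq (n / q)
    have e : x ^ n * (x ^ (n % q))⁻¹ = (x ^ q) ^ (n / q) := by
      conv_lhs => arg 1; rw [← Nat.mod_add_div n q, pow_add, pow_mul]
      rw [Subgroup.mem_center_iff.1 hz, mul_inv_cancel_right]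
    rw [e]
    exact hz
  induction j with
  | zero =>
    rw [pow_zero, pow_zero, ZMod.val_one, pow_one, one_mul, inv_one, mul_one, mul_inv_cancel]
    exact one_mem _
  | succ j ih =>
    set v := (((u : ZMod q)) ^ j).val with hv
    set z := k ^ j * x * (k ^ j)⁻¹ * (x ^ v)⁻¹ with hz
    set z₁ := k * x * k⁻¹ * (x ^ u)⁻¹ with hz₁
    have e1 : k ^ j * x * (k ^ j)⁻¹ = z * x ^ v := by rw [hz, inv_mul_cancel_right]
    have e2 : (k * x * k⁻¹) ^ v = z₁ ^ v * x ^ (u * v) := by
      rw [show k * x * k⁻¹ = z₁ * x ^ u by rw [hz₁, inv_mul_cancel_right],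
        (show Commute z₁ (x ^ u) from (Subgroup.mem_center_iff.1 h _).symm).mul_pow, ← pow_mul]
    have e3 : k ^ (j + 1) * x * (k ^ (j + 1))⁻¹ = z * (z₁ ^ v * x ^ (u * v)) := by
      rw [← e2, pow_succ', mul_inv_rev,
        show k * k ^ j * x * ((k ^ j)⁻¹ * k⁻¹) = k * (k ^ j * x * (k ^ j)⁻¹) * k⁻¹ by group,
        e1, ← mul_assoc, Subgroup.mem_center_iff.1 ih k, conj_pow]
      group
    have e4 : ((u * v : ℕ) : ZMod q).val = (((u : ZMod q)) ^ (j + 1)).val := by
      rw [Nat.cast_mul, hv, ZMod.natCast_zmod_val, pow_succ']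
    have e5 : ∀ a b c d : G, a * (b * c) * d = a * (b * (c * d)) := fun a b c d => by group
    rw [e3, ← e4, e5]
    exact mul_mem ih (mul_mem (pow_mem h _) (hmod _))

theorem conj_mem_cen {x k c : G} (hk : k ∈ nC x) (hc : c ∈ cen x) : k * c * k⁻¹ ∈ cen x :=
  (Subgroup.mem_normalizer_iff.1 hk c).1 hc

open scoped IsMulCommutative in
theorem nC_le_mX (hS : Setup p G) {q : ℕ} [hq : Fact q.Prime] (hqp : q ≠ p) (hf : Fail p q G)
    (Q : Sylow q G) {x : G} (hxQ : x ∈ (Q : Subgroup G)) (hx : Non p x)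
    (hxq : x ^ q ∈ Subgroup.center G) (hQx : (Q : Subgroup G) ≤ mX x) : nC x ≤ mX x := by
  classical
  obtain ⟨g, hg, hgx⟩ := exists_outside hS hf Q hx
  have hgQ : IsQ q g := isQ_of_mem Q.isPGroup' hg
  have hxQ' : IsQ q x := isQ_of_mem Q.isPGroup' hxQ
  have hxT : x ∈ tor x q := mem_tor_of (self_mem_cen x) hxQ'
  have hgm : g ∈ mX x := hQx hg
  have hgN : g ∈ nC x := mX_le_nC x hgm
  have hgc : g ∉ cen x := fun h => hgx (mem_tor_of h hgQ)
  have hgq : g ^ q ∈ Subgroup.center G := pow_mem_center_of_outside hS hqp hx hxq hgQ hgm hgx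
  set z₀ := cm x g with hz₀
  have hz₀1 : z₀ ≠ 1 := fun h => hgc (cm_eq_one.1 h)
  have hz₀q : orderOf z₀ = q := orderOf_eq_prime (cm_pow_eq_one hxq hgm) hz₀1
  -- a coset fixed by `g` is the trivial one
  have hfixed : ∀ k ∈ nC x, k⁻¹ * g * k ∈ mX x → k ∈ mX x := by
    intro k hk hgk
    by_contra hkm
    have key : ∀ k' ∈ nC x, k'⁻¹ * g * k' ∈ mX x → ∀ u : ℕ,
        k' * x * k'⁻¹ * (x ^ u)⁻¹ ∈ Subgroup.center G →
        k'⁻¹ * g * k' * (g ^ u)⁻¹ ∈ cen x := by
      intro k' hk' hgk' u hu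
      obtain ⟨i, hi, hic⟩ := exists_pow_mem_cen hS hq.out hx hxq hgm hgk' hgc
      have e : cm x (k'⁻¹ * g * k') = z₀ ^ u := by
        set z := k' * x * k'⁻¹ * (x ^ u)⁻¹ with hz
        have e1 : k' * x * k'⁻¹ = z * x ^ u := by rw [hz, inv_mul_cancel_right]
        have hxu : g * x ^ u * g⁻¹ = z₀ ^ u * x ^ u := by
          rw [← conj_pow, show g * x * g⁻¹ = z₀ * x by rw [hz₀, cm, inv_mul_cancel_right],
            (show Commute z₀ x from (Subgroup.mem_center_iff.1 hgm x).symm).mul_pow]
        calc cm x (k'⁻¹ * g * k')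
            = k'⁻¹ * (g * (k' * x * k'⁻¹) * g⁻¹ * (k' * x * k'⁻¹)⁻¹) * k' := by rw [cm]; group
          _ = k'⁻¹ * (g * (z * x ^ u) * g⁻¹ * (z * x ^ u)⁻¹) * k' := by rw [e1]
          _ = k'⁻¹ * (z * (g * x ^ u * g⁻¹) * (x ^ u)⁻¹ * z⁻¹) * k' := by
              rw [← mul_assoc g z, Subgroup.mem_center_iff.1 hu g]; group
          _ = k'⁻¹ * (z * z₀ ^ u * z⁻¹) * k' := by rw [hxu]; group
          _ = z₀ ^ u := by
              have hz₀c : z₀ ^ u ∈ Subgroup.center G := pow_mem (show z₀ ∈ Subgroup.center G from hgm) u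
              rw [Subgroup.mem_center_iff.1 hz₀c z, mul_inv_cancel_right,
                mul_assoc, ← Subgroup.mem_center_iff.1 hz₀c k', inv_mul_cancel_left]
      rw [← cm_eq_one, cm_mul (inv_mem (pow_mem hgm i))] at hic
      rw [← cm_eq_one, cm_mul (inv_mem (pow_mem hgm u))]
      have hinv : ∀ n : ℕ, cm x (g ^ n)⁻¹ = (z₀ ^ n)⁻¹ := by
        intro n
        have h := cm_mul (k := (g ^ n)⁻¹) (pow_mem hgm n)
        rw [inv_mul_cancel, show cm x (1 : G) = 1 by simp [cm], cm_pow hgm] at h
        exact eq_inv_of_mul_eq_one_right h.symm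
      rw [e, hinv, inv_mul_cancel]
    have hga : g ∈ mX (k * x * k⁻¹) := by
      rw [mem_mX, show cm (k * x * k⁻¹) g = k * cm x (k⁻¹ * g * k) * k⁻¹ by rw [cm, cm]; group]
      exact (inferInstance : (Subgroup.center G).Normal).conj_mem _ hgk k
    obtain ⟨lam, hlam, hk2⟩ := exists_pow_of_fixed hS hqp hx hxq hxQ' hgQ hgm hgx
      (conj_mem_tor_of_nC hk hxT) hga
    have hlam0 : ((lam : ZMod q)) ≠ 0 := by
      intro h0
      rw [CharP.cast_eq_zero_iff (ZMod q) q] at h0
      rw [Nat.eq_zero_of_dvd_of_lt h0 hlam, pow_zero, inv_one, mul_one] at hk2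
      exact hx.2 (conj_mem_center.1 hk2)
    have hlam1 : ((lam : ZMod q)) ≠ 1 := by
      intro h1
      have := congrArg ZMod.val h1
      rw [ZMod.val_natCast, ZMod.val_one, Nat.mod_eq_of_lt hlam] at this
      rw [this, pow_one] at hk2
      exact hkm hk2
    set m := orderOf ((lam : ZMod q)) with hm
    have hm0 : m ≠ 1 := fun h => hlam1 (orderOf_eq_one_iff.1 h)
    have hfin : IsOfFinOrder ((lam : ZMod q)) := by
      rw [isOfFinOrder_iff_pow_eq_one]
      exact ⟨q - 1, by have := hq.out.two_le; omega, ZMod.pow_card_sub_one_eq_one hlam0⟩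
    set l := m.minFac with hldef
    haveI : Fact l.Prime := ⟨Nat.minFac_prime hm0⟩
    set n := m / l with hn
    have hnl : n * l = m := Nat.div_mul_cancel (Nat.minFac_dvd m)
    set k₁ := k ^ n with hk₁
    set u := ((lam : ZMod q)) ^ n with hu
    have hk₁x : k₁ * x * k₁⁻¹ * (x ^ u.val)⁻¹ ∈ Subgroup.center G := conj_pow_pivot hxq hk2 n
    have hul : u ^ l = 1 := by rw [hu, ← pow_mul, hnl, hm, pow_orderOf_eq_one]
    have hu1 : u ≠ 1 := by
      intro h
      have hd := orderOf_dvd_of_pow_eq_one h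
      rw [← hm] at hd
      have hn0 : 0 < n := Nat.pos_of_ne_zero fun e => by
        rw [e, zero_mul] at hnl
        exact absurd hnl.symm (orderOf_pos_iff.2 hfin).ne'
      have h2 := Nat.le_of_dvd hn0 hd
      have := (Nat.minFac_prime hm0).two_le
      rw [← hldef] at this
      nlinarith
    have hk₁N : k₁ ∈ nC x := pow_mem hk n
    have hk₁g : k₁⁻¹ * g * k₁ ∈ mX x := by
      have : ∀ j : ℕ, (k ^ j)⁻¹ * g * k ^ j ∈ mX x := by
        intro j
        induction j with
        | zero => simpa using hgm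
        | succ j ih =>
          obtain ⟨i, -, hi⟩ := exists_pow_mem_cen hS hq.out hx hxq hgm ih hgc
          have e : (k ^ (j + 1))⁻¹ * g * k ^ (j + 1) =
              (k⁻¹ * ((k ^ j)⁻¹ * g * k ^ j * (g ^ i)⁻¹) * k) * (k⁻¹ * g * k) ^ i := by
            have e' : (k⁻¹ * g * k) ^ i = k⁻¹ * g ^ i * k := by
              have h := conj_pow (a := k⁻¹) (b := g) (i := i)
              rwa [inv_inv] at h
            rw [e', pow_succ, mul_inv_rev]
            group
          rw [e]
          refine mul_mem (cen_le_mX x ?_) (pow_mem hgk i)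
          have := conj_mem_cen (inv_mem hk) hi
          rwa [inv_inv] at this
      exact this n
    have hk₁u : k₁⁻¹ * g * k₁ * (g ^ u.val)⁻¹ ∈ cen x := key k₁ hk₁N hk₁g _ hk₁x
    have hk₁c : k₁ ∉ cen x := by
      intro h
      rw [← cm_eq_one, cm, mul_inv_eq_one] at h
      rw [h] at hk₁x
      refine hu1 (ZMod.val_injective _ ?_)
      rcases Nat.eq_zero_or_pos u.val with h0 | h0
      · rw [h0, pow_zero, inv_one, mul_one] at hk₁x
        exact absurd hk₁x hx.2
      have h' : x ^ (u.val - 1) ∈ Subgroup.center G := by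
        rw [← Subgroup.inv_mem_iff]
        convert hk₁x using 1
        rw [← pow_sub_mul_pow x (show 1 ≤ u.val from h0), pow_one, mul_inv_rev, ← mul_assoc,
          mul_inv_cancel, one_mul]
      have hd := dvd_of_pow_mem hx.2 hxq h'
      have := u.val_lt
      have := Nat.eq_zero_of_dvd_of_lt hd (by omega)
      rw [ZMod.val_one]; omega
    have hk₁l : k₁ ^ l ∈ mX x := by
      have h := conj_pow_pivot hxq hk₁x l
      rw [ZMod.natCast_zmod_val, hul, ZMod.val_one, pow_one] at h
      exact h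
    obtain ⟨i₀, hi₀, hci₀⟩ := exists_pow_mem_cen hS hq.out hx hxq hgm hk₁l hgc
    -- the action on the abelian subgroup for another prime
    obtain ⟨r, hr, hrp, hrq, hR⟩ := hS.other q
    haveI := tor_comm hS hx hr hrp
    set N := Subgroup.normalizer (tor x r : Set G) with hN
    have hle : nC x ≤ N := nC_le_normalizer_tor x r
    let g' : N := ⟨g, hle hgN⟩
    let t' : N := ⟨k₁⁻¹, hle (inv_mem hk₁N)⟩
    let φ : N →* MulAut (tor x r) := (tor x r).normalizerMonoidHom
    have hone : ∀ a : N, (a : G) ∈ cen x → φ a = 1 := fun a ha => act_eq_one hS hx hr hrp a ha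
    have heq : ∀ a b : N, (a : G) * (b : G)⁻¹ ∈ cen x → φ a = φ b := by
      intro a b h
      have := hone (a * b⁻¹) (by simpa using h)
      rwa [map_mul, map_inv, mul_inv_eq_one] at this
    have hconj : φ t' * φ g' * (φ t')⁻¹ = φ g' ^ u.val := by
      rw [← map_inv, ← map_mul, ← map_mul, ← map_pow]
      exact heq _ _ (by simpa [g', t'] using hk₁u)
    have hσ : φ g' ^ q = 1 := by
      rw [← map_pow]; exact hone _ (by simpa [g'] using center_le_cen x hgq)
    have hi₀0 : i₀ = 0 := by
      have hτl : (φ t')⁻¹ ^ l = φ g' ^ i₀ := by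
        rw [← map_inv, ← map_pow, ← map_pow]
        exact heq _ _ (by simpa [g', t'] using hci₀)
      have hc : φ t' * φ g' ^ i₀ * (φ t')⁻¹ = φ g' ^ i₀ := by
        rw [← hτl, ((Commute.refl (φ t')).inv_right.pow_right l).eq, mul_inv_cancel_right]
      rw [← conj_pow, hconj, ← pow_mul] at hc
      have hord : orderOf (φ g') = q := by
        refine orderOf_eq_prime hσ fun h1 => hgc ?_
        obtain ⟨y, hy, hyc⟩ := exists_tor_non hS hx hr hrp hR
        exact mem_cen_of_act_fix hS hx hr hrp g' ⟨y, hy⟩ hyc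
          (by rw [show (tor x r).normalizerMonoidHom g' = φ g' from rfl, h1, MulAut.one_apply])
      rw [pow_eq_pow_iff_modEq, hord, ← ZMod.natCast_eq_natCast_iff, Nat.cast_mul,
        ZMod.natCast_zmod_val] at hc
      rcases mul_left_eq_self₀.1 hc with h | h
      · exact absurd h hu1
      · rw [CharP.cast_eq_zero_iff (ZMod q) q] at h
        exact Nat.eq_zero_of_dvd_of_lt h hi₀
    have hk₁lc : k₁ ^ l ∈ cen x := by simpa [hi₀0] using hci₀
    obtain ⟨y, hy, hyc⟩ := exists_tor_non hS hx hr hrp hR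
    have hmem := pow_mem_of_frobenius (σ := φ g') (τ := φ t') hσ u hul hu1 hconj
      ((Subgroup.center G).subgroupOf (tor x r)) ⟨y, hy⟩
      (fun v => nrm_mem_center hS hx hr hrp g' hgc (center_le_cen x hgq) v) (fun i => by
        rw [← map_pow, ← map_inv, ← map_mul, ← map_mul]
        refine nrm_mem_center hS hx hr hrp (g' ^ i * t' * (g' ^ i)⁻¹) ?_ ?_ _
        · intro h
          have h' := conj_mem_cen (inv_mem (pow_mem hgN i)) h
          refine hk₁c ?_
          rw [← inv_mem_iff]
          simpa [g', t', mul_assoc] using h'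
        · have h' := conj_mem_cen (pow_mem hgN i) (inv_mem hk₁lc)
          push_cast
          rwa [conj_pow, show ((t' : N) : G) = k₁⁻¹ from rfl, show ((g' : N) : G) = g from rfl,
            inv_pow])
    have hyq : y ^ q ∈ Subgroup.center G := hmem
    obtain ⟨j, hj⟩ := (isQ_of_mem_tor hS hx hr hrp hy).orderOf_dvd
    exact hyc (mem_center_of_pow
      ((((Nat.coprime_primes hq.out hr).2 hrq.symm).pow_right j).of_dvd_right hj) hyq)
  -- the product over the cosets
  intro m hm
  haveI := tor_comm hS hx hq.out hqp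
  let N := nC x
  let S : Subgroup N := (mX x).subgroupOf N
  let C : Subgroup (tor x q) := (Subgroup.center G).subgroupOf (tor x q)
  let ι : N →* Subgroup.normalizer (tor x q : Set G) :=
    Subgroup.inclusion (nC_le_normalizer_tor x q)
  let ψ : N →* MulAut (tor x q) := (tor x q).normalizerMonoidHom.comp ι
  have hψ : ∀ (k : N) (w : tor x q), ((ψ k w : tor x q) : G) = (k : G) * w * (k : G)⁻¹ :=
    fun k w => act_val _ w
  let xh : tor x q := ⟨x, hxT⟩
  let f : N ⧸ S → tor x q ⧸ C := Quotient.lift (fun k : N => QuotientGroup.mk (ψ k xh)) (by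
    intro a b hab
    replace hab : a⁻¹ * b ∈ S := QuotientGroup.leftRel_apply.1 hab
    rw [QuotientGroup.eq]
    show _ ∈ (Subgroup.center G).subgroupOf (tor x q)
    rw [Subgroup.mem_subgroupOf]
    push_cast
    rw [hψ, hψ]
    have hm' : ((a : G)⁻¹ * b) ∈ mX x := hab
    rw [mem_mX, cm] at hm'
    have e : ((a : G) * x * (a : G)⁻¹)⁻¹ * ((b : G) * x * (b : G)⁻¹) =
        (a : G) * (x⁻¹ * (((a : G)⁻¹ * b) * x * ((a : G)⁻¹ * b)⁻¹ * x⁻¹) * x) * (a : G)⁻¹ := by
      group
    rw [show (xh : G) = x from rfl, e]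
    refine (inferInstance : (Subgroup.center G).Normal).conj_mem _ ?_ _
    simpa using (inferInstance : (Subgroup.center G).Normal).conj_mem _ hm' x⁻¹)
  haveI : Fintype (N ⧸ S) := Fintype.ofFinite _
  let e : Equiv.Perm (N ⧸ S) := MulAction.toPermHom N (N ⧸ S) ⟨g, hgN⟩
  have hgqS : ∀ k : N, (⟨g, hgN⟩ ^ q : N) • (QuotientGroup.mk k : N ⧸ S) = QuotientGroup.mk k := by
    intro k
    refine QuotientGroup.eq.2 ?_
    show _ ∈ (mX x).subgroupOf N
    rw [Subgroup.mem_subgroupOf]
    push_cast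
    refine cen_le_mX x (center_le_cen x ?_)
    simpa [mul_assoc] using
      (inferInstance : (Subgroup.center G).Normal).conj_mem _ (inv_mem hgq) (k : G)⁻¹
  have heq : e ^ q = 1 := by
    apply Equiv.ext
    intro c
    induction c using QuotientGroup.induction_on with
    | H k =>
      rw [show e ^ q = MulAction.toPermHom N (N ⧸ S) (⟨g, hgN⟩ ^ q) from (map_pow _ _ _).symm]
      exact hgqS k
  have hW : ∏ c, f c = QuotientGroup.mk xh := by
    rw [Fintype.prod_eq_mul_prod_compl (QuotientGroup.mk (1 : N) : N ⧸ S)]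
    have h1 : f (QuotientGroup.mk 1) = QuotientGroup.mk xh := by
      show QuotientGroup.mk (ψ 1 xh) = _
      rw [map_one, MulAut.one_apply]
    rw [h1, prod_eq_one_of_free e heq f ?_ _ ?_, mul_one]
    · intro c
      induction c using QuotientGroup.induction_on with
      | H k =>
        have e2 : ∀ a : ZMod q, f ((e ^ a.val) (QuotientGroup.mk k)) =
            QuotientGroup.mk ((ψ ⟨g, hgN⟩ ^ a.val) (ψ k xh)) := by
          intro a
          rw [show e ^ a.val = MulAction.toPermHom N (N ⧸ S) (⟨g, hgN⟩ ^ a.val) from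
            (map_pow _ _ _).symm, ← map_pow, ← MulAut.mul_apply, ← map_mul]
          rfl
        rw [Finset.prod_congr rfl fun a _ => e2 a]
        rw [← QuotientGroup.mk_prod, QuotientGroup.eq_one_iff]
        exact nrm_mem_center hS hx hq.out hqp (ι ⟨g, hgN⟩) hgc (center_le_cen x hgq) _
    · intro c hc
      rw [Finset.mem_compl, Finset.mem_singleton] at hc
      have hne : e c ≠ c := by
        intro hfix
        induction c using QuotientGroup.induction_on with
        | H k =>
          refine hc ?_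
          rw [QuotientGroup.eq, mul_one]
          show _ ∈ (mX x).subgroupOf N
          rw [Subgroup.mem_subgroupOf, Subgroup.coe_inv, inv_mem_iff]
          refine hfixed _ k.2 ?_
          have h : (QuotientGroup.mk (⟨g, hgN⟩ * k) : N ⧸ S) = QuotientGroup.mk k := hfix
          rw [QuotientGroup.eq] at h
          have h' : ((⟨g, hgN⟩ * k : N) : G)⁻¹ * (k : G) ∈ mX x := h
          have h'' := inv_mem h'
          simpa [mul_assoc] using h''
      refine ⟨?_, hne⟩
      rw [Finset.mem_compl, Finset.mem_singleton]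
      intro h1
      have hfix1 : e (QuotientGroup.mk 1) = QuotientGroup.mk 1 := by
        refine QuotientGroup.eq.2 ?_
        show _ ∈ (mX x).subgroupOf N
        rw [Subgroup.mem_subgroupOf]
        simpa using hgm
      exact hc (e.injective (h1.trans hfix1.symm))
  let m' : N := ⟨m, hm⟩
  let P : tor x q := ∏ c : N ⧸ S, ψ c.out xh
  have hP : (QuotientGroup.mk P : tor x q ⧸ C) = QuotientGroup.mk xh := by
    rw [← hW, QuotientGroup.mk_prod]
    refine Finset.prod_congr rfl fun c _ => ?_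
    conv_rhs => rw [← QuotientGroup.out_eq' c]
    rfl
  have hmP : (QuotientGroup.mk (ψ m' P) : tor x q ⧸ C) = QuotientGroup.mk xh := by
    rw [← hW, map_prod, QuotientGroup.mk_prod]
    refine Fintype.prod_equiv (MulAction.toPerm m') _ _ fun c => ?_
    conv_rhs => rw [MulAction.toPerm_apply, ← QuotientGroup.out_eq' c]
    rw [← MulAut.mul_apply, ← map_mul]
    rfl
  have hmx : (QuotientGroup.mk (ψ m' P) : tor x q ⧸ C) = QuotientGroup.mk (ψ m' xh) := by
    rw [QuotientGroup.eq] at hP ⊢
    rw [← map_inv, ← map_mul]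
    show _ ∈ (Subgroup.center G).subgroupOf (tor x q)
    rw [Subgroup.mem_subgroupOf, hψ]
    exact (inferInstance : (Subgroup.center G).Normal).conj_mem _ hP _
  have hfin : (QuotientGroup.mk xh : tor x q ⧸ C) = QuotientGroup.mk (ψ m' xh) := hmP.symm.trans hmx
  rw [QuotientGroup.eq] at hfin
  have h' : x⁻¹ * (m * x * m⁻¹) ∈ Subgroup.center G := by
    have := (show _ ∈ (Subgroup.center G).subgroupOf (tor x q) from hfin)
    rw [Subgroup.mem_subgroupOf] at this
    push_cast at this
    rwa [hψ] at this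
  rw [mem_mX, cm]
  simpa [mul_assoc] using (inferInstance : (Subgroup.center G).Normal).conj_mem _ h' x

end Cfsg.Agent.RegTwoSizes
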