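import Mathlib
import Cfsg.Agent.Lib.RegTwoSizes.OneClass
import Cfsg.Agent.Lib.Techniques.PConstrained

/-!
# The hypothesis in quotients by `p`-subgroups and in normal subgroups
-/

set_option autoImplicit false
set_option linter.unusedSectionVars false

namespace Cfsg.Agent.RegTwoSizes

open Subgroup

variable {G : Type*} [Group G] [Finite G] {p : ℕ}

theorem card_cen_conj (h x : G) : Nat.card (cen (h * x * h⁻¹)) = Nat.card (cen x) := by
  have e : cen (h * x * h⁻¹) = (cen x).map (MulAut.conj h).toMonoidHom := by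
    ext u
    rw [mem_cen_conj]
    constructor
    · intro hu
      exact ⟨_, hu, by simp [mul_assoc]⟩
    · rintro ⟨v, hv, rfl⟩
      simpa [mul_assoc] using hv
  rw [e, Subgroup.card_map_of_injective (MulAut.conj h).injective]

theorem map_cen_eq (hS : Setup p G) (P₀ : Subgroup G) [P₀.Normal] (hP₀ : IsPGroup p P₀) {y : G}
    (hy : Non p y) :
    (cen y).map (QuotientGroup.mk' P₀) = cen (QuotientGroup.mk' P₀ y) := by
  set f := QuotientGroup.mk' P₀ with hf
  refine le_antisymm ?_ fun u hu => ?_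
  · rintro _ ⟨u, hu, rfl⟩
    rw [mem_cen, ← map_mul, ← map_mul, mem_cen.1 hu]
  obtain ⟨l, k, hl, hlp, hQ, hc⟩ := exists_primary hS.hp hy
  haveI := Fact.mk hl
  have hker : (Nat.card f.ker).Coprime l := by
    haveI := Fact.mk hS.hp
    obtain ⟨a, ha⟩ := (show IsPGroup p f.ker by rwa [hf, QuotientGroup.ker_mk']).exists_card_eq
    rw [ha]
    exact ((Nat.coprime_primes hS.hp hl).2 hlp.symm).pow_left a
  have h := Cfsg.Agent.PConstr.map_centralizer_eq f (QuotientGroup.mk'_surjective P₀) hker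
    hQ.zpowers
  have e1 : Subgroup.centralizer (Subgroup.zpowers (y ^ k) : Set G) = cen (y ^ k) := by
    rw [Subgroup.zpowers_eq_closure, Subgroup.centralizer_closure]
  have e2 : Subgroup.centralizer ((Subgroup.zpowers (y ^ k)).map f : Set (G ⧸ P₀)) =
      cen (f (y ^ k)) := by
    rw [MonoidHom.map_zpowers, Subgroup.zpowers_eq_closure, Subgroup.centralizer_closure]
  rw [e1, e2] at h
  have e3 : cen y = cen (y ^ k) := cen_eq_of_le hS hy ⟨hy.1.pow k, hc⟩ fun v hv =>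
    mem_cen.2 ((show Commute v y from mem_cen.1 hv).pow_right k).eq
  rw [e3, h, map_pow]
  exact mem_cen.2 ((show Commute u (f y) from mem_cen.1 hu).pow_right k).eq

theorem exists_reg_lift (hp : p.Prime) (P₀ : Subgroup G) [P₀.Normal] (yb : G ⧸ P₀)
    (hyb : Reg p yb) : ∃ y : G, Reg p y ∧ QuotientGroup.mk' P₀ y = yb := by
  obtain ⟨y₀, rfl⟩ := QuotientGroup.mk'_surjective P₀ yb
  set a := p ^ (orderOf y₀).factorization p with ha
  obtain ⟨m, hm⟩ := exists_pow_eq_self_of_coprime (x := QuotientGroup.mk' P₀ y₀) (n := a)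
    (Nat.Coprime.pow_left _ (Nat.Coprime.symm hyb))
  refine ⟨(y₀ ^ a) ^ m, Reg.pow ?_ m, by rw [map_pow, map_pow, hm]⟩
  have hd : orderOf (y₀ ^ a) ∣ orderOf y₀ / a := orderOf_dvd_of_pow_eq_one (by
    rw [← pow_mul, ha, Nat.ordProj_mul_ordCompl_eq_self, pow_orderOf_eq_one])
  exact (Nat.coprime_ordCompl hp (orderOf_pos y₀).ne').symm.of_dvd_left hd

theorem factorization_quotient (hp : p.Prime) (P₀ : Subgroup G) [P₀.Normal] (hP₀ : IsPGroup p P₀)
    {q : ℕ} (hqp : q ≠ p) :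
    (Nat.card G).factorization q = (Nat.card (G ⧸ P₀)).factorization q := by
  haveI := Fact.mk hp
  obtain ⟨a, ha⟩ := hP₀.exists_card_eq
  rw [Subgroup.card_eq_card_quotient_mul_card_subgroup P₀, Nat.factorization_mul Nat.card_pos.ne'
    Nat.card_pos.ne', Finsupp.add_apply, ha, hp.factorization_pow, Finsupp.single_apply,
    if_neg hqp.symm, add_zero]

theorem not_mem_center_mk (hS : Setup p G) (P₀ : Subgroup G) [P₀.Normal] (hP₀ : IsPGroup p P₀)
    {q : ℕ} (hq : q.Prime) (hqp : q ≠ p) (hf : Fail p q G) {y : G} (hy : Non p y) :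
    QuotientGroup.mk' P₀ y ∉ Subgroup.center (G ⧸ P₀) ∧
      q ∣ (cen (QuotientGroup.mk' P₀ y)).index := by
  set H := cen (QuotientGroup.mk' P₀ y) with hH
  have hd : q ∣ H.index := by
    by_contra hd
    have h1 : (Nat.card H).factorization q = (Nat.card G).factorization q := by
      rw [factorization_quotient hS.hp P₀ hP₀ hqp, ← Subgroup.card_mul_index H,
        Nat.factorization_mul Nat.card_pos.ne' Subgroup.index_ne_zero_of_finite, Finsupp.add_apply,
        Nat.factorization_eq_zero_of_not_dvd hd, add_zero]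
    have h2 : Nat.card H ∣ Nat.card (cen y) := by
      rw [hH, ← map_cen_eq hS P₀ hP₀ hy]
      exact Subgroup.card_map_dvd _ _
    have h3 := (Nat.factorization_le_iff_dvd Nat.card_pos.ne' Nat.card_pos.ne').2 h2 q
    have h4 := hf.lt hS hq hy
    omega
  refine ⟨fun hc => ?_, hd⟩
  rw [hH, cen_eq_top_iff.2 hc, Subgroup.index_top] at hd
  exact hq.ne_one (Nat.dvd_one.1 hd)

theorem setup_quotient (hS : Setup p G) (P₀ : Subgroup G) [P₀.Normal] (hP₀ : IsPGroup p P₀)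
    {q : ℕ} (hq : q.Prime) (hqp : q ≠ p) (hf : Fail p q G) :
    Setup p (G ⧸ P₀) ∧ Fail p q (G ⧸ P₀) := by
  set f := QuotientGroup.mk' P₀ with hfdef
  have hreg : ∀ {y : G}, Reg p y → Reg p (f y) := fun {y} hy => hy.of_dvd_left (orderOf_map_dvd f y)
  refine ⟨⟨hS.hp, ?_, ?_⟩, ?_⟩
  · intro a b ha hb
    obtain ⟨x, hx, rfl⟩ := exists_reg_lift hS.hp P₀ a ha.1
    obtain ⟨y, hy, rfl⟩ := exists_reg_lift hS.hp P₀ b hb.1
    have hxn : Non p x := ⟨hx, fun h => ha.2 (Subgroup.mem_center_iff.2 fun v => by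
      obtain ⟨v, rfl⟩ := QuotientGroup.mk'_surjective P₀ v
      rw [← map_mul, ← map_mul, Subgroup.mem_center_iff.1 h v])⟩
    have hyn : Non p y := ⟨hy, fun h => hb.2 (Subgroup.mem_center_iff.2 fun v => by
      obtain ⟨v, rfl⟩ := QuotientGroup.mk'_surjective P₀ v
      rw [← map_mul, ← map_mul, Subgroup.mem_center_iff.1 h v])⟩
    obtain ⟨h, hh⟩ := oneClass hS x y hxn hyn
    rw [← map_cen_eq hS P₀ hP₀ hyn, hh, map_cen_eq hS P₀ hP₀ (hxn.conj h), map_mul, map_mul,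
      map_inv, card_cen_conj]
  · obtain ⟨a, b, ha, hb, hap, hbp, hab, ⟨x, hx, hxc⟩, ⟨y, hy, hyc⟩⟩ := hS.two
    exact ⟨a, b, ha, hb, hap, hbp, hab,
      ⟨f x, hx.map f, (not_mem_center_mk hS P₀ hP₀ hq hqp hf (non_of_isQ hS.hp ha hap hx hxc)).1⟩,
      ⟨f y, hy.map f, (not_mem_center_mk hS P₀ hP₀ hq hqp hf (non_of_isQ hS.hp hb hbp hy hyc)).1⟩⟩
  · obtain ⟨x, hx, -⟩ := id hf
    exact ⟨f x, ⟨hreg hx.1, (not_mem_center_mk hS P₀ hP₀ hq hqp hf hx).1⟩,
      (not_mem_center_mk hS P₀ hP₀ hq hqp hf hx).2⟩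

theorem cen_coe (W : Subgroup G) (w : W) : cen w = (cen (w : G)).subgroupOf W := by
  ext u
  simp [Subgroup.mem_subgroupOf, Subgroup.mem_centralizer_singleton_iff, Subtype.ext_iff]

theorem setup_subgroup (hS : Setup p G) (W : Subgroup G) [W.Normal]
    (hnc : ∀ w ∈ W, Non p w → ¬ W ≤ cen w)
    (htwo : ∃ q r : ℕ, q.Prime ∧ r.Prime ∧ q ≠ p ∧ r ≠ p ∧ q ≠ r ∧
      (∃ w ∈ W, IsQ q w ∧ w ∉ Subgroup.center G) ∧ (∃ w ∈ W, IsQ r w ∧ w ∉ Subgroup.center G)) :
    Setup p W := by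
  have hnon : ∀ {w : W}, Non p w → Non p (w : G) := fun {w} hw =>
    ⟨by have := hw.1; rwa [Reg, ← Subgroup.orderOf_coe] at this, fun hc => hw.2 (Subgroup.mem_center_iff.2 fun v =>
      Subtype.ext (Subgroup.mem_center_iff.1 hc v))⟩
  refine ⟨hS.hp, ?_, ?_⟩
  · intro a b ha hb
    obtain ⟨h, hh⟩ := oneClass hS _ _ (hnon ha) (hnon hb)
    rw [cen_coe, cen_coe, hh]
    refine Nat.card_congr ((MulAut.conjNormal h).toEquiv.subtypeEquiv fun u => ?_)
    rw [Subgroup.mem_subgroupOf, Subgroup.mem_subgroupOf, mem_cen_conj]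
    simp [mul_assoc]
  · obtain ⟨q, r, hq, hr, hqp, hrp, hne, hQ, hR⟩ := htwo
    have mk : ∀ {l : ℕ}, l.Prime → l ≠ p → (∃ w ∈ W, IsQ l w ∧ w ∉ Subgroup.center G) →
        HasNon W l := by
      rintro l hl hlp ⟨w, hw, hwQ, hwc⟩
      refine ⟨⟨w, hw⟩, ?_, fun hc => hnc w hw (non_of_isQ hS.hp hl hlp hwQ hwc) fun v hv =>
        mem_cen.2 (congrArg Subtype.val (Subgroup.mem_center_iff.1 hc ⟨v, hv⟩))⟩
      obtain ⟨a, ha⟩ := hwQ
      exact ⟨a, Subtype.ext (by simpa using ha)⟩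
    exact ⟨q, r, hq, hr, hqp, hrp, hne, mk hq hqp hQ, mk hr hrp hR⟩

end Cfsg.Agent.RegTwoSizes
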