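import Mathlib
import Cfsg.Agent.Lib.RegTwoSizes.Pivot
import Cfsg.Agent.Lib.RegTwoSizes.Quotient
import Cfsg.Agent.Lib.Char.Burnside

/-!
# A normal subgroup just above the centre is not nilpotent
-/

set_option autoImplicit false
set_option linter.unusedSectionVars false

namespace Cfsg.Agent.RegTwoSizes

open Subgroup
open scoped Pointwise

universe u

variable {G : Type u} [Group G] [Finite G] {p : ℕ}

theorem not_all_cen_eq (hS : Setup p G) {q : ℕ} [hq : Fact q.Prime] (hqp : q ≠ p) (hf : Fail p q G)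
    {c : Subgroup G} (h : ∀ y : G, Non p y → cen y = c) : False := by
  obtain ⟨w, hw, -⟩ := id hf
  obtain ⟨Q⟩ : Nonempty (Sylow q G) := inferInstance
  have hQc : ¬ (Q : Subgroup G) ≤ Subgroup.center G := fun h =>
    not_le_cen hS hf Q hw (h.trans (center_le_cen w))
  obtain ⟨x, hxQ, hxc, -, -⟩ := exists_pivot hS hqp hf Q le_rfl
    (fun k hk s hs => mul_mem (mul_mem hk hs) (inv_mem hk)) hQc
  have hx : Non p x := non_of_isQ hS.hp hq.out hqp (isQ_of_mem Q.isPGroup' hxQ) hxc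
  obtain ⟨g, hg, hgx⟩ := exists_outside hS hf Q hx
  have hgn : Non p g := non_of_isQ hS.hp hq.out hqp (isQ_of_mem Q.isPGroup' hg) fun hc =>
    hgx (mem_tor_of (center_le_cen x hc) (isQ_of_mem Q.isPGroup' hg))
  refine hgx (mem_tor_of ?_ (isQ_of_mem Q.isPGroup' hg))
  rw [h x hx, ← h g hgn]
  exact self_mem_cen g

theorem not_le_cen_of_normal (hS : Setup p G) {q : ℕ} [Fact q.Prime] (hqp : q ≠ p) (hf : Fail p q G)
    (W : Subgroup G) [W.Normal] {w : G} (hw : w ∈ W) (hwn : Non p w) : ¬ W ≤ cen w := by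
  intro hle
  refine not_all_cen_eq hS hqp hf (c := cen w) fun y hy => ?_
  obtain ⟨h, hh⟩ := oneClass hS w y hwn hy
  have hwy : w ∈ cen y := by
    rw [hh, mem_cen_conj]
    refine hle ?_
    simpa using (inferInstance : W.Normal).conj_mem w hw h⁻¹
  exact (cen_eq hS hy hwn hwy).symm

theorem exists_normal_pGroup (W : Subgroup G) [W.Normal] [Group.IsNilpotent W]
    (hW : ¬ W ≤ Subgroup.center G) :
    ∃ (l : ℕ) (L : Subgroup G), l.Prime ∧ L.Normal ∧ IsPGroup l L ∧ ¬ L ≤ Subgroup.center G := by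
  obtain ⟨w, hw, hwc⟩ := SetLike.not_le_iff_exists.1 hW
  obtain ⟨k, l, hl, hkQ, hkc⟩ : ∃ k l, l.Prime ∧ IsQ l (w ^ k) ∧ w ^ k ∉ Subgroup.center G := by
    by_contra hcon
    push Not at hcon
    exact hwc (mem_of_primary _ w fun k l hl _ hk => hcon k l hl hk)
  haveI := Fact.mk hl
  obtain ⟨L⟩ : Nonempty (Sylow l W) := inferInstance
  haveI hLn : (L : Subgroup W).Normal :=
    (Group.isNilpotent_of_finite_tfae.out 0 3 rfl rfl).mp inferInstance l inferInstance L
  haveI := Sylow.characteristic_of_normal L hLn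
  refine ⟨l, (L : Subgroup W).map W.subtype, hl, inferInstance, L.isPGroup'.map _, fun h => hkc (h ?_)⟩
  have hz : IsPGroup l (Subgroup.zpowers (⟨w ^ k, pow_mem hw k⟩ : W)) := by
    refine IsQ.zpowers ?_
    obtain ⟨a, ha⟩ := hkQ
    exact ⟨a, Subtype.ext (by simpa using ha)⟩
  obtain ⟨L', hL'⟩ := hz.exists_le_sylow
  haveI := Sylow.unique_of_normal L hLn
  rw [Subsingleton.elim L' L] at hL'
  exact ⟨⟨w ^ k, pow_mem hw k⟩, hL' (Subgroup.mem_zpowers _), rfl⟩

theorem false_of_normal_primeTo (hS : Setup p G) {q : ℕ} [Fact q.Prime] (hqp : q ≠ p)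
    (hf : Fail p q G) {l : ℕ} (hl : l.Prime) (hlp : l ≠ p) (L : Subgroup G) [L.Normal]
    (hL : IsPGroup l L) (hLc : ¬ L ≤ Subgroup.center G) : False := by
  haveI := Fact.mk hl
  obtain ⟨a, haL, hac⟩ := SetLike.not_le_iff_exists.1 hLc
  have haQ : IsQ l a := isQ_of_mem hL haL
  have han := non_of_isQ hS.hp hl hlp haQ hac
  obtain ⟨r, hr, hrp, hrl, hR⟩ := hS.other l
  refine not_all_cen_eq hS hqp hf (c := cen a) fun y hy => ?_
  obtain ⟨S, hSy⟩ := exists_sylow_le_nC hS (oneClass hS) hy (l := l) hlp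
  obtain ⟨t, ht, htc⟩ := exists_tor_non hS hy hr hrp hR
  have hay : a ∈ nC y := hSy (hL.le_sylow_of_normal S haL)
  have htQ : IsQ r (a * t * a⁻¹ * t⁻¹) := isQ_of_mem_tor hS hy hr hrp
    (mul_mem (conj_mem_tor_of_nC hay ht) (inv_mem ht))
  have hL' : IsQ l (a * t * a⁻¹ * t⁻¹) := isQ_of_mem hL (by
    rw [show a * t * a⁻¹ * t⁻¹ = a * (t * a⁻¹ * t⁻¹) by group]
    exact mul_mem haL ((inferInstance : L.Normal).conj_mem _ (inv_mem haL) t))
  have h1 : a ∈ cen t := cm_eq_one.1 (IsQ.eq_one hl hr hrl.symm hL' htQ)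
  rw [cen_eq_of_mem_tor hS hy hr hrp ht htc] at h1
  exact (cen_eq hS hy han h1).symm

end Cfsg.Agent.RegTwoSizes
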