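import Mathlib
import Cfsg.Agent.Lib.RegTwoSizes.Nilpotent

/-!
# No prime other than `p` divides the class size
-/

set_option autoImplicit false
set_option linter.unusedSectionVars false

namespace Cfsg.Agent.RegTwoSizes

open Subgroup
open scoped Pointwise commutatorElement

universe u

variable {G : Type u} [Group G] [Finite G] {p : ℕ}

theorem card_sylow_inter {q : ℕ} [hq : Fact q.Prime] (Q : Sylow q G) (W : Subgroup G) [W.Normal] :
    Nat.card ((Q : Subgroup G).subgroupOf W) = q ^ (Nat.card W).factorization q := by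
  obtain ⟨S⟩ : Nonempty (Sylow q W) := inferInstance
  obtain ⟨Q', hQ'⟩ := (S.isPGroup'.map W.subtype).exists_le_sylow
  obtain ⟨h, hh⟩ := MulAction.exists_smul_eq G Q' Q
  have hge : Nat.card (S : Subgroup W) ≤ Nat.card ((Q : Subgroup G).subgroupOf W) := by
    refine Nat.card_le_card_of_injective (fun s => ⟨MulAut.conjNormal h (s : W), ?_⟩) ?_
    · rw [Subgroup.mem_subgroupOf, MulAut.conjNormal_apply, ← hh, Sylow.coe_subgroup_smul,
        Subgroup.mem_pointwise_smul_iff_inv_smul_mem]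
      simpa [MulAut.smul_def, mul_assoc] using
        hQ' (Subgroup.mem_map_of_mem W.subtype s.2)
    · intro a b e
      exact Subtype.ext ((MulAut.conjNormal h).injective (congrArg Subtype.val e))
  obtain ⟨k, hk⟩ := (Q.isPGroup'.comap_of_injective W.subtype W.subtype_injective).exists_card_eq
  change Nat.card ((Q : Subgroup G).subgroupOf W) = q ^ k at hk
  have hd := Subgroup.card_subgroup_dvd_card ((Q : Subgroup G).subgroupOf W)
  rw [hk, hq.out.pow_dvd_iff_le_factorization Nat.card_pos.ne'] at hd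
  rw [S.card_eq_multiplicity, hk] at hge
  rw [hk]
  exact le_antisymm (Nat.pow_le_pow_right hq.out.pos hd) hge

theorem exists_conj_mem_sylow {q : ℕ} [Fact q.Prime] (Q : Sylow q G) {w : G} (hw : IsQ q w) :
    ∃ h : G, h * w * h⁻¹ ∈ (Q : Subgroup G) := by
  obtain ⟨Q', hQ'⟩ := hw.zpowers.exists_le_sylow
  obtain ⟨h, hh⟩ := MulAction.exists_smul_eq G Q' Q
  refine ⟨h, ?_⟩
  rw [← hh, Sylow.coe_subgroup_smul, Subgroup.mem_pointwise_smul_iff_inv_smul_mem]
  simpa [MulAut.smul_def, mul_assoc] using hQ' (Subgroup.mem_zpowers w)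

theorem eq_bot_of_perfect_solvable {H : Type*} [Group H] (K : Subgroup H) [Group.IsSolvable K]
    (hK : K ≤ ⁅K, K⁆) : K = ⊥ := by
  have h : ∀ n, K ≤ (derivedSeries K n).map K.subtype := by
    intro n
    induction n with
    | zero => rw [derivedSeries_zero, ← MonoidHom.range_eq_map, Subgroup.range_subtype]
    | succ n ih =>
      rw [derivedSeries_succ, Subgroup.map_commutator]
      exact hK.trans (Subgroup.commutator_mono ih ih)
  obtain ⟨n, hn⟩ := (Group.isSolvable_def K).1 inferInstance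
  have := h n
  rwa [hn, Subgroup.map_bot, le_bot_iff] at this

theorem not_solvable {W : Subgroup G} [W.Normal] (hW : ⁅W, W⁆ ⊔ Subgroup.center G = W)
    (hWc : ¬ W ≤ Subgroup.center G) : ¬ Group.IsSolvable W := by
  intro hs
  haveI := hs
  set K := ⁅W, W⁆ with hK
  have hKW : K ≤ W := hW ▸ le_sup_left
  haveI : Group.IsSolvable K :=
    solvable_of_solvable_injective (f := Subgroup.inclusion hKW) (Subgroup.inclusion_injective hKW)
  have hperf : K ≤ ⁅K, K⁆ := by
    conv_lhs => rw [hK]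
    rw [Subgroup.commutator_le]
    intro a ha b hb
    rw [← hW, Subgroup.mem_sup_of_normal_right] at ha hb
    obtain ⟨a', ha', z, hz, rfl⟩ := ha
    obtain ⟨b', hb', z', hz', rfl⟩ := hb
    have e : ⁅a' * z, b' * z'⁆ = ⁅a', b'⁆ := by
      have c1 := Subgroup.mem_center_iff.1 hz
      have c2 := Subgroup.mem_center_iff.1 hz'
      rw [commutatorElement_def, commutatorElement_def]
      calc a' * z * (b' * z') * (a' * z)⁻¹ * (b' * z')⁻¹
          = a' * (z * b') * z' * z⁻¹ * a'⁻¹ * z'⁻¹ * b'⁻¹ := by group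
        _ = a' * (b' * z) * z' * z⁻¹ * a'⁻¹ * z'⁻¹ * b'⁻¹ := by rw [c1 b']
        _ = a' * b' * (z * z') * z⁻¹ * a'⁻¹ * z'⁻¹ * b'⁻¹ := by group
        _ = a' * b' * (z' * z) * z⁻¹ * a'⁻¹ * z'⁻¹ * b'⁻¹ := by rw [c1 z']
        _ = a' * b' * (z' * a'⁻¹) * z'⁻¹ * b'⁻¹ := by group
        _ = a' * b' * (a'⁻¹ * z') * z'⁻¹ * b'⁻¹ := by rw [c2 a'⁻¹]
        _ = _ := by group
    rw [e]
    exact Subgroup.commutator_mem_commutator ha' hb'
  have := eq_bot_of_perfect_solvable K hperf
  exact hWc (hW ▸ by rw [this, bot_sup_eq])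

theorem exists_third_prime (hp : p.Prime) {q : ℕ} (hq : q.Prime) {W : Subgroup G} [W.Normal]
    (hW : ⁅W, W⁆ ⊔ Subgroup.center G = W) (hWc : ¬ W ≤ Subgroup.center G) :
    ∃ l, l.Prime ∧ l ≠ p ∧ l ≠ q ∧ ∃ w ∈ W, IsQ l w ∧ w ∉ Subgroup.center G := by
  by_contra hcon
  push Not at hcon
  refine not_solvable hW hWc ?_
  let Z : Subgroup W := (Subgroup.center G).subgroupOf W
  haveI : Z.Normal := inferInstance
  have hdvd : ∀ l, l.Prime → l ∣ Nat.card (W ⧸ Z) → l = p ∨ l = q := by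
    intro l hl hd
    by_contra hne
    push Not at hne
    haveI := Fact.mk hl
    obtain ⟨S⟩ : Nonempty (Sylow l W) := inferInstance
    have hSZ : (S : Subgroup W) ≤ Z := fun s hs =>
      hcon l hl hne.1 hne.2 s s.2 ((isQ_of_mem S.isPGroup' hs).map W.subtype)
    exact S.not_dvd_index ((Subgroup.index_eq_card Z ▸ hd).trans (Subgroup.index_dvd_of_le hSZ))
  haveI : Group.IsSolvable (W ⧸ Z) := by
    refine Cfsg.Agent.Char.isSolvable_of_card_pq p q hp hq _ (W ⧸ Z) rfl ?_
    refine ⟨(Nat.card (W ⧸ Z)).factorization p, if p = q then 0 else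
      (Nat.card (W ⧸ Z)).factorization q, ?_⟩
    have hn : Nat.card (W ⧸ Z) ≠ 0 := Nat.card_pos.ne'
    refine Nat.eq_of_factorization_eq hn (by
      have := pow_ne_zero ((Nat.card (W ⧸ Z)).factorization p) hp.ne_zero
      exact mul_ne_zero this (pow_ne_zero _ hq.ne_zero)) fun r => ?_
    rw [Nat.factorization_mul (pow_ne_zero _ hp.ne_zero) (pow_ne_zero _ hq.ne_zero),
      Finsupp.add_apply, hp.factorization_pow, hq.factorization_pow, Finsupp.single_apply,
      Finsupp.single_apply]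
    have h0 : r ≠ p → r ≠ q → (Nat.card (W ⧸ Z)).factorization r = 0 := fun h1 h2 => by
      by_cases hr : r.Prime
      · exact Nat.factorization_eq_zero_of_not_dvd fun hd => (hdvd r hr hd).elim h1 h2
      · exact Nat.factorization_eq_zero_of_not_prime _ hr
    rcases eq_or_ne p r with rfl | hpr
    · rcases eq_or_ne q p with rfl | hqr
      · simp
      · simp [hqr]
    · rcases eq_or_ne q r with rfl | hqr
      · simp [hpr]
      · simp [hpr, hqr, h0 hpr.symm hqr.symm]
  haveI : IsMulCommutative Z := ⟨⟨fun a b => Subtype.ext (Subtype.ext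
    (Subgroup.mem_center_iff.1 a.2 ((b : W) : G)).symm)⟩⟩
  haveI : Group.IsSolvable Z := Group.isSolvable_of_comm fun a b => mul_comm' a b
  exact Group.isSolvable_of_ker_le_range Z.subtype (QuotientGroup.mk' Z)
    (by rw [QuotientGroup.ker_mk', Subgroup.range_subtype])

/-- A normal subgroup with abelian Sylow `q`-subgroup having a pivot is not perfect modulo centre. -/
theorem false_of_perfect_dvd (hS : Setup p G) {q : ℕ} [hq : Fact q.Prime] (hqp : q ≠ p)
    (hf : Fail p q G) {W : Subgroup G} [W.Normal] (hW : ⁅W, W⁆ ⊔ Subgroup.center G = W)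
    {w : G} (hwW : w ∈ W) (hwQ : IsQ q w) (hwc : w ∉ Subgroup.center G)
    (hIH : ¬ Fail p q W) : False := by
  classical
  obtain ⟨Q⟩ : Nonempty (Sylow q G) := inferInstance
  obtain ⟨h, hh⟩ := exists_conj_mem_sylow Q hwQ
  have hn : ¬ (Q : Subgroup G) ⊓ W ≤ Subgroup.center G := fun hle =>
    hwc (conj_mem_center.1 (hle ⟨hh, (inferInstance : W.Normal).conj_mem w hwW h⟩))
  obtain ⟨x, ⟨hxQ, hxW⟩, hxc, hxq, hQx⟩ := exists_pivot hS hqp hf Q
    (inf_le_left : (Q : Subgroup G) ⊓ W ≤ (Q : Subgroup G))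
    (fun k hk s hs => ⟨(Q : Subgroup G).mul_mem ((Q : Subgroup G).mul_mem hk hs.1)
      ((Q : Subgroup G).inv_mem hk),
      (inferInstance : W.Normal).conj_mem s hs.2 k⟩) hn
  have hx : Non p x := non_of_isQ hS.hp hq.out hqp (isQ_of_mem Q.isPGroup' hxQ) hxc
  have hNM := nC_le_mX hS hqp hf Q hxQ hx hxq hQx
  let xW : W := ⟨x, hxW⟩
  have hxWn : Non p xW := ⟨by have := hx.1; rw [Reg] at this ⊢; rwa [← Subgroup.orderOf_coe],
    fun hc => not_le_cen_of_normal hS hqp hf W hxW hx fun v hv =>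
      mem_cen.2 (congrArg Subtype.val (Subgroup.mem_center_iff.1 hc ⟨v, hv⟩))⟩
  have hnd : ¬ q ∣ (cen xW).index := fun hd => hIH ⟨xW, hxWn, hd⟩
  have hmem : ∀ n : W, (n : G) ∈ mX x → (n : G) ∈ cen x := by
    intro n hn
    let M : Subgroup W := (mX x).subgroupOf W
    let H : Subgroup M := (cen xW).subgroupOf M
    haveI : H.Normal := ⟨fun a ha b => by
      simp only [H, Subgroup.mem_subgroupOf] at ha ⊢
      rw [cen_coe, Subgroup.mem_subgroupOf] at ha ⊢
      push_cast
      exact conj_mem_cen (mX_le_nC x b.2) ha⟩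
    have hHM : H.index ∣ (cen xW).index := by
      have hle : cen xW ≤ M := by
        rw [cen_coe]; exact fun a ha => cen_le_mX x ha
      exact Dvd.intro _ (Subgroup.relIndex_mul_index hle)
    have h1 := Subgroup.pow_index_mem H ⟨n, hn⟩
    rw [Subgroup.mem_subgroupOf, cen_coe, Subgroup.mem_subgroupOf] at h1
    push_cast at h1
    rw [← cm_eq_one] at h1 ⊢
    rw [cm_pow hn] at h1
    refine eq_one_of_pow ?_ h1
    have hd := orderOf_dvd_of_pow_eq_one (cm_pow_eq_one hxq hn)
    exact ((hq.out.coprime_iff_not_dvd.2 fun hd' => hnd (hd'.trans hHM)).symm).of_dvd_right hd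
  let S : Sylow q W := Sylow.ofCard ((Q : Subgroup G).subgroupOf W) (card_sylow_inter Q W)
  have hSx : ∀ s ∈ (S : Subgroup W), (s : G) ∈ cen x := fun s hs => hmem s (hQx hs)
  haveI : IsMulCommutative (S : Subgroup W) := ⟨⟨fun a b => Subtype.ext (Subtype.ext
    (commute_of_mem hS hx (hSx a a.2) (reg_of_isQ hS.hp hq.out hqp
      ((isQ_of_mem S.isPGroup' a.2).map W.subtype)) (hSx b b.2)).eq)⟩⟩
  open scoped IsMulCommutative in
  let τ : W →* ↥(S : Subgroup W) := MonoidHom.transfer (MonoidHom.id (S : Subgroup W))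
  have hxS : xW ∈ (S : Subgroup W) := hxQ
  have key : ∀ (k : ℕ) (g₀ : W), g₀⁻¹ * xW ^ k * g₀ ∈ (S : Subgroup W) →
      g₀⁻¹ * xW ^ k * g₀ = xW ^ k := by
    intro k g₀ hk
    obtain ⟨n, hn, e⟩ := S.conj_eq_normalizer_conj_of_mem (xW ^ k) g₀ (pow_mem hxS k) hk
    rw [e]
    have hnN : (n : G) ∈ nC x := by
      rw [mem_nC_iff]
      have hnx : n * xW * n⁻¹ ∈ (S : Subgroup W) := (Subgroup.mem_normalizer_iff.1 hn xW).1 hxS
      exact cen_eq hS hx (hx.conj _) (by simpa [xW] using hSx _ hnx)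
    have hnc : Commute (n : G) x := mem_cen.1 (hmem n (hNM hnN))
    refine Subtype.ext ?_
    push_cast
    rw [mul_assoc, ← (hnc.pow_right k).eq, inv_mul_cancel_left]
  have hτx : (τ xW : W) = xW ^ (S : Subgroup W).index := by
    show ((MonoidHom.transfer (MonoidHom.id (S : Subgroup W)) xW : (S : Subgroup W)) : W) = _
    rw [MonoidHom.transfer_eq_pow _ _ key]
    rfl
  let U : Subgroup W := {
    carrier := {v | (((τ v : W)) : G) ∈ Subgroup.center G}
    one_mem' := by simp
    mul_mem' := by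
      intro a b ha hb
      simp only [Set.mem_ofPred_eq, map_mul, Subgroup.coe_mul] at ha hb ⊢
      exact mul_mem ha hb
    inv_mem' := by
      intro a ha
      simp only [Set.mem_ofPred_eq, map_inv, Subgroup.coe_inv] at ha ⊢
      exact inv_mem ha }
  have hU : W ≤ U.map W.subtype := by
    conv_lhs => rw [← hW]
    refine sup_le (Subgroup.commutator_le.2 fun a ha b hb => ?_) fun z hz => ?_
    · refine ⟨⁅(⟨a, ha⟩ : W), ⟨b, hb⟩⁆, ?_, by simp [commutatorElement_def]⟩
      show ((τ ⁅(⟨a, ha⟩ : W), ⟨b, hb⟩⁆ : W) : G) ∈ Subgroup.center G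
      rw [map_commutatorElement, commutatorElement_eq_one_iff_commute.2
        (IsMulCommutative.is_comm.comm _ _)]
      exact one_mem _
    · have hzW : z ∈ W := hW ▸ Subgroup.mem_sup_right hz
      refine ⟨⟨z, hzW⟩, ?_, rfl⟩
      show ((τ ⟨z, hzW⟩ : W) : G) ∈ Subgroup.center G
      have hzc : ∀ (k : ℕ) (g₀ : W), g₀⁻¹ * (⟨z, hzW⟩ : W) ^ k * g₀ ∈ (S : Subgroup W) →
          g₀⁻¹ * (⟨z, hzW⟩ : W) ^ k * g₀ = (⟨z, hzW⟩ : W) ^ k := fun k g₀ _ => by
        refine Subtype.ext ?_
        push_cast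
        rw [mul_assoc, ← Subgroup.mem_center_iff.1 (pow_mem hz k) (g₀ : G), inv_mul_cancel_left]
      show (((MonoidHom.transfer (MonoidHom.id (S : Subgroup W)) ⟨z, hzW⟩ :
        (S : Subgroup W)) : W) : G) ∈ _
      rw [MonoidHom.transfer_eq_pow _ _ hzc]
      simpa using pow_mem hz _
  obtain ⟨v, hv, hvx⟩ := hU hxW
  obtain rfl : v = xW := Subtype.ext hvx
  have h1 : ((τ xW : W) : G) ∈ Subgroup.center G := hv
  rw [hτx] at h1
  push_cast at h1
  obtain ⟨a, ha⟩ := (isQ_of_mem Q.isPGroup' hxQ).orderOf_dvd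
  exact hxc (mem_center_of_pow
    ((((hq.out.coprime_iff_not_dvd).2 S.not_dvd_index).symm.pow_right a).of_dvd_right ha) h1)

theorem false_of_perfect_not_dvd (hS : Setup p G) {q : ℕ} [hq : Fact q.Prime] (hqp : q ≠ p)
    (hf : Fail p q G) {l : ℕ} [hl : Fact l.Prime] (hlp : l ≠ p)
    (hfl : ¬ Fail p l G) {W : Subgroup G} [W.Normal]
    {w : G} (hwW : w ∈ W) (hwQ : IsQ l w) (hwc : w ∉ Subgroup.center G)
    (hq' : ∀ v ∈ W, IsQ q v → v ∈ Subgroup.center G) : False := by
  classical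
  obtain ⟨Q⟩ : Nonempty (Sylow q G) := inferInstance
  obtain ⟨z, hz, -⟩ := id hf
  have hQc : ¬ (Q : Subgroup G) ≤ Subgroup.center G := fun h =>
    not_le_cen hS hf Q hz (h.trans (center_le_cen z))
  obtain ⟨x, hxQ, hxc, hxq, hQx⟩ := exists_pivot hS hqp hf Q le_rfl
    (fun k hk s hs => mul_mem (mul_mem hk hs) (inv_mem hk)) hQc
  have hx : Non p x := non_of_isQ hS.hp hq.out hqp (isQ_of_mem Q.isPGroup' hxQ) hxc
  obtain ⟨g, hg, hgx⟩ := exists_outside hS hf Q hx
  have hgQ : IsQ q g := isQ_of_mem Q.isPGroup' hg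
  have hgc : g ∉ cen x := fun h => hgx (mem_tor_of h hgQ)
  have hgn : Non p g := non_of_isQ hS.hp hq.out hqp hgQ fun h => hgc (center_le_cen x h)
  have hT : ∀ y : G, Non p y →
      Nat.card (tor y l) = l ^ (Nat.card G).factorization l := fun y hy => by
    rw [card_tor hS hy hl.out hlp, not_fail_factorization hS hl.out hfl hy]
  let T₁ : Sylow l G := Sylow.ofCard (tor g l) (hT g hgn)
  let T₂ : Sylow l G := Sylow.ofCard (tor x l) (hT x hx)
  let S₁ : Sylow l W := Sylow.ofCard ((T₁ : Subgroup G).subgroupOf W) (card_sylow_inter T₁ W)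
  let S₂ : Sylow l W := Sylow.ofCard ((T₂ : Subgroup G).subgroupOf W) (card_sylow_inter T₂ W)
  obtain ⟨v, hv⟩ := MulAction.exists_smul_eq W S₁ S₂
  have hconj : ∀ s : G, s ∈ tor g l → s ∈ W → (v : G) * s * (v : G)⁻¹ ∈ tor x l := by
    intro s hs hsW
    have : MulAut.conj v • (⟨s, hsW⟩ : W) ∈ MulAut.conj v • (S₁ : Subgroup W) :=
      Subgroup.smul_mem_pointwise_smul _ _ _ (show (⟨s, hsW⟩ : W) ∈ (S₁ : Subgroup W) from hs)
    rw [← Sylow.coe_subgroup_smul, hv] at this
    exact this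
  have hconj' : ∀ s : G, s ∈ tor x l → s ∈ W → (v : G)⁻¹ * s * v ∈ tor g l := by
    intro s hs hsW
    have hs' : (⟨s, hsW⟩ : W) ∈ (S₂ : Subgroup W) := hs
    rw [← hv, Sylow.coe_subgroup_smul, Subgroup.mem_pointwise_smul_iff_inv_smul_mem] at hs'
    have hs'' : ((v⁻¹ * ⟨s, hsW⟩ * v : W) : G) ∈ tor g l := by
      simpa [MulAut.smul_def, mul_assoc, S₁, T₁, Subgroup.mem_subgroupOf] using hs'
    simpa using hs''
  set A : Subgroup G := tor g l ⊓ W with hA
  set X : Subgroup G := Subgroup.zpowers g ⊔ W with hX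
  set NX : Subgroup G := Subgroup.normalizer (A : Set G) ⊓ X with hNX
  have hfix : ∀ s ∈ A, g * s * g⁻¹ = s := fun s hs => by
    rw [(commute_of_mem hS hgn (tor_le g l hs.1) (reg_of_mem_tor hS hgn hl.out hlp hs.1)
      (self_mem_cen g)).symm.eq, mul_inv_cancel_right]
  have hgNX : g ∈ NX := by
    refine ⟨Subgroup.mem_normalizer_iff.2 fun s => ⟨fun hs => ?_, fun hs => ?_⟩,
      Subgroup.mem_sup_left (Subgroup.mem_zpowers g)⟩
    · rw [hfix s hs]; exact hs
    · have h := hfix _ hs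
      have e : g * s * g⁻¹ = s := mul_left_cancel (mul_right_cancel h)
      rwa [e] at hs
  have hgN : g ∈ nC x := mX_le_nC x (hQx hg)
  have hg'NX : (v : G)⁻¹ * g * v ∈ NX := by
    have hstep : ∀ u ∈ nC x, ∀ s ∈ A, (v : G)⁻¹ * u * v * s * ((v : G)⁻¹ * u * v)⁻¹ ∈ A := by
      intro u hu s hs
      have hsW : (v : G) * s * (v : G)⁻¹ ∈ W := (inferInstance : W.Normal).conj_mem s hs.2 v
      have h1 := conj_mem_tor_of_nC hu (hconj s hs.1 hs.2)
      have h1W : u * ((v : G) * s * (v : G)⁻¹) * u⁻¹ ∈ W :=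
        (inferInstance : W.Normal).conj_mem _ hsW u
      have e : (v : G)⁻¹ * u * v * s * ((v : G)⁻¹ * u * v)⁻¹ =
          (v : G)⁻¹ * (u * ((v : G) * s * (v : G)⁻¹) * u⁻¹) * v := by group
      rw [e]
      exact ⟨hconj' _ h1 h1W, W.mul_mem (W.mul_mem (W.inv_mem v.2) h1W) v.2⟩
    refine ⟨Subgroup.mem_normalizer_iff.2 fun s => ⟨hstep g hgN s, fun hs => ?_⟩,
      X.mul_mem (X.mul_mem (Subgroup.mem_sup_right (W.inv_mem v.2))
        (Subgroup.mem_sup_left (Subgroup.mem_zpowers g))) (Subgroup.mem_sup_right v.2)⟩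
    have h := hstep g⁻¹ (inv_mem hgN) _ hs
    simpa [mul_assoc] using h
  -- a Sylow subgroup of the normaliser containing `g`
  let g₁ : NX := ⟨g, hgNX⟩
  let g₂ : NX := ⟨(v : G)⁻¹ * g * v, hg'NX⟩
  have hQ₁ : IsQ q g₁ := by
    obtain ⟨a, ha⟩ := hgQ
    exact ⟨a, Subtype.ext (by simpa [g₁] using ha)⟩
  have hQ₂ : IsQ q g₂ := by
    obtain ⟨a, ha⟩ := hgQ.conj (v : G)⁻¹
    exact ⟨a, Subtype.ext (by simpa [g₂] using ha)⟩
  obtain ⟨D₁, hD₁⟩ := hQ₁.zpowers.exists_le_sylow
  obtain ⟨D₂, hD₂⟩ := hQ₂.zpowers.exists_le_sylow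
  obtain ⟨n, hn⟩ := MulAction.exists_smul_eq NX D₁ D₂
  have hDcent : ∀ u ∈ (D₁ : Subgroup NX), ∀ s ∈ A, Commute (u : G) s := by
    intro u hu s hs
    obtain ⟨i, hi, b, hb, e⟩ := Subgroup.mem_sup_of_normal_right.1 u.2.2
    obtain ⟨j, rfl⟩ := Subgroup.mem_zpowers_iff.1 hi
    have hgD : g₁ ∈ (D₁ : Subgroup NX) := hD₁ (Subgroup.mem_zpowers g₁)
    have hbQ : IsQ q b := by
      have h := (isQ_of_mem D₁.isPGroup' (mul_mem (zpow_mem hgD (-j)) hu)).map NX.subtype
      have e' : NX.subtype (g₁ ^ (-j) * u) = b := by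
        rw [Subgroup.subtype_apply, Subgroup.coe_mul, Subgroup.coe_zpow, ← e, zpow_neg,
          inv_mul_cancel_left]
      rwa [e'] at h
    rw [← e]
    refine Commute.mul_left (Commute.zpow_left ?_ j) (Subgroup.mem_center_iff.1 (hq' b hb hbQ) s).symm
    exact mul_inv_eq_iff_eq_mul.1 (hfix s hs)
  have hg₂ : g₂ ∈ (D₂ : Subgroup NX) := hD₂ (Subgroup.mem_zpowers g₂)
  rw [← hn, Sylow.coe_subgroup_smul, Subgroup.mem_pointwise_smul_iff_inv_smul_mem] at hg₂
  -- so `g` centralises a noncentral part of `tor x l`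
  obtain ⟨h, hh⟩ := exists_conj_mem_sylow T₁ hwQ
  set s := h * w * h⁻¹ with hs
  have hsA : s ∈ A := ⟨hh, (inferInstance : W.Normal).conj_mem w hwW h⟩
  have hsc : s ∉ Subgroup.center G := fun hc => hwc (conj_mem_center.1 hc)
  have hns : (n : G)⁻¹ * s * (n : G) ∈ A := by
    have h := (Subgroup.mem_normalizer_iff.1 (inv_mem n.2.1) s).1 hsA
    simpa using h
  have hc2 := (hDcent _ hg₂ _ hns)
  have hu : (((MulAut.conj n)⁻¹ • g₂ : NX) : G) = (n : G)⁻¹ * ((v : G)⁻¹ * g * v) * n := by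
    simp [MulAut.smul_def, g₂, mul_assoc]
  rw [hu] at hc2
  have hfin : Commute g ((v : G) * s * (v : G)⁻¹) := by
    have e := hc2.eq
    show g * _ = _ * g
    have e2 : (v : G)⁻¹ * g * v * s = s * ((v : G)⁻¹ * g * v) := by
      calc (v : G)⁻¹ * g * v * s
          = (n : G) * ((n : G)⁻¹ * ((v : G)⁻¹ * g * v) * n * ((n : G)⁻¹ * s * n)) * (n : G)⁻¹ := by
            group
        _ = (n : G) * ((n : G)⁻¹ * s * n * ((n : G)⁻¹ * ((v : G)⁻¹ * g * v) * n)) * (n : G)⁻¹ := by
            rw [e]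
        _ = s * ((v : G)⁻¹ * g * v) := by group
    calc g * ((v : G) * s * (v : G)⁻¹) = (v : G) * ((v : G)⁻¹ * g * v * s) * (v : G)⁻¹ := by group
      _ = (v : G) * (s * ((v : G)⁻¹ * g * v)) * (v : G)⁻¹ := by rw [e2]
      _ = (v : G) * s * (v : G)⁻¹ * g := by group
  refine hgc ?_
  rw [← cen_eq_of_mem_tor hS hx hl.out hlp (hconj s hsA.1 hsA.2)
    (fun hc => hsc (conj_mem_center.1 hc))]
  exact mem_cen.2 hfin.eq

theorem main (n : ℕ) : ∀ (G : Type u) [Group G] [Finite G], Nat.card G = n → Setup p G →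
    ∀ q : ℕ, q.Prime → q ≠ p → ¬ Fail p q G := by
  induction n using Nat.strong_induction_on with
  | _ n ih =>
    intro G _ _ hn hS q hq hqp hf
    classical
    haveI := Fact.mk hq
    have hc := oneClass hS
    obtain ⟨z, hz, -⟩ := id hf
    obtain ⟨Q⟩ : Nonempty (Sylow q G) := inferInstance
    have hQc : ¬ (Q : Subgroup G) ≤ Subgroup.center G := fun h =>
      not_le_cen hS hf Q hz (h.trans (center_le_cen z))
    obtain ⟨x, hxQ, hxc, hxq, hQx⟩ := exists_pivot hS hqp hf Q le_rfl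
      (fun k hk s hs => mul_mem (mul_mem hk hs) (inv_mem hk)) hQc
    have hx : Non p x := non_of_isQ hS.hp hq hqp (isQ_of_mem Q.isPGroup' hxQ) hxc
    have hNM : nC x = mX x := le_antisymm (nC_le_mX hS hqp hf Q hxQ hx hxq hQx) (mX_le_nC x)
    -- the other primes do not divide the class size
    have hother : ∀ l, l.Prime → l ≠ p → l ≠ q → ¬ Fail p l G := by
      intro l hl hlp hlq hfl
      haveI := Fact.mk hl
      obtain ⟨L, hL⟩ := exists_sylow_le_nC hS hc hx (l := l) hlp
      refine not_le_cen hS hfl L hx fun u hu => ?_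
      have hum : u ∈ mX x := hNM ▸ hL hu
      obtain ⟨a, ha⟩ := (isQ_of_mem L.isPGroup' hu).orderOf_dvd
      rw [← cm_eq_one]
      refine eq_one_of_pow (n := orderOf u) ?_ (by
        rw [← cm_pow hum, pow_orderOf_eq_one]; simp [cm])
      exact ((((Nat.coprime_primes hl hq).2 hlq).pow_left a).of_dvd_left ha).of_dvd_right
        (orderOf_dvd_of_pow_eq_one (cm_pow_eq_one hxq hum))
    -- the centraliser modulo the centre has prime power index, not one
    obtain ⟨k, hk⟩ := index_nC hS hc hx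
    rw [hNM] at hk
    have hne : mX x ≠ ⊤ := by
      intro htop
      refine not_all_cen_eq hS hqp hf (c := cen x) fun y hy => ?_
      obtain ⟨h, hh⟩ := hc x y hx hy
      rw [hh]
      refine mem_nC_iff.1 ?_
      rw [hNM, htop]
      exact Subgroup.mem_top h
    set Z := Subgroup.center G with hZ
    let f : G →* G ⧸ Z := QuotientGroup.mk' Z
    have hcomap : (cen (f x)).comap f = mX x := by
      ext u
      rw [Subgroup.mem_comap, mem_cen, mem_mX, cm, ← map_mul, ← map_mul,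
        show f = QuotientGroup.mk' Z from rfl, QuotientGroup.mk'_apply, QuotientGroup.mk'_apply,
        QuotientGroup.eq]
      constructor
      · intro h
        have := (inferInstance : Z.Normal).conj_mem _ (inv_mem h) (u * x)
        simpa [mul_assoc, hZ] using (inferInstance : Z.Normal).conj_mem _ (inv_mem h) (x * u)
      · intro h
        have := (inferInstance : Z.Normal).conj_mem _ (inv_mem h) (u * x)⁻¹
        simpa [mul_assoc, hZ] using this
    have hidx : (cen (f x)).index = p ^ k := by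
      rw [← hk, ← hcomap, Subgroup.index_comap_of_surjective _ (QuotientGroup.mk'_surjective Z)]
    have hfx : f x ≠ 1 := fun h => hxc ((QuotientGroup.eq_one_iff x).1 h)
    haveI : Nontrivial (G ⧸ Z) := ⟨⟨_, _, hfx⟩⟩
    have hns : ¬ IsSimpleGroup (G ⧸ Z) := by
      intro hsimp
      have hprime := Cfsg.Agent.Char.prime_card_of_class_prime_pow hS.hp (f x) hfx hidx
      haveI := Fact.mk hprime
      haveI := isCyclic_of_prime_card (α := G ⧸ Z) rfl
      refine hne (eq_top_iff.2 fun u _ => ?_)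
      rw [← hcomap, Subgroup.mem_comap, mem_cen]
      exact IsCyclic.commGroup.mul_comm _ _
    obtain ⟨W₀, hW₀n, hW₀b, hW₀t⟩ : ∃ W₀ : Subgroup (G ⧸ Z), W₀.Normal ∧ W₀ ≠ ⊥ ∧ W₀ ≠ ⊤ := by
      by_contra hcon
      push Not at hcon
      exact hns ⟨fun H hH => or_iff_not_imp_left.2 (hcon H hH)⟩
    -- a smallest normal subgroup properly above the centre
    have hex : ∃ m, ∃ W : Subgroup G, W.Normal ∧ Z < W ∧ W ≠ ⊤ ∧ Nat.card W = m := by
      refine ⟨_, W₀.comap f, hW₀n.comap f, lt_of_le_of_ne ?_ ?_, ?_, rfl⟩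
      · intro u hu
        rw [Subgroup.mem_comap, show f u = 1 from (QuotientGroup.eq_one_iff u).2 hu]
        exact one_mem _
      · intro h
        refine hW₀b (eq_bot_iff.2 fun w hw => ?_)
        obtain ⟨u, rfl⟩ := QuotientGroup.mk'_surjective Z w
        have hu : u ∈ Z := h ▸ (show u ∈ W₀.comap f from hw)
        exact (QuotientGroup.eq_one_iff u).2 hu
      · intro h
        refine hW₀t (eq_top_iff.2 fun w _ => ?_)
        obtain ⟨u, rfl⟩ := QuotientGroup.mk'_surjective Z w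
        exact (h ▸ Subgroup.mem_top u : u ∈ W₀.comap f)
    obtain ⟨W, hWn, hZW, hWt, hWm⟩ := Nat.find_spec hex
    haveI := hWn
    have hWc : ¬ W ≤ Z := not_le_of_gt hZW
    by_cases hnil : ⁅W, W⁆ ≤ Z
    · -- nilpotent case
      haveI : Group.IsNilpotent W := by
        let g : W →* W ⧸ (Z.subgroupOf W) := QuotientGroup.mk' _
        have hcomm : ∀ a b : W ⧸ (Z.subgroupOf W), a * b = b * a := by
          intro a b
          induction a using QuotientGroup.induction_on with
          | H a =>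
          induction b using QuotientGroup.induction_on with
          | H b =>
            rw [← QuotientGroup.mk_mul, ← QuotientGroup.mk_mul, QuotientGroup.eq,
              Subgroup.mem_subgroupOf]
            push_cast
            have h := hnil (Subgroup.commutator_mem_commutator (inv_mem b.2) (inv_mem a.2))
            simpa [commutatorElement_def, mul_assoc] using h
        letI : CommGroup (W ⧸ (Z.subgroupOf W)) :=
          { (inferInstance : Group (W ⧸ (Z.subgroupOf W))) with mul_comm := hcomm }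
        refine Subgroup.isNilpotent_of_ker_le_center g ?_
        rw [QuotientGroup.ker_mk']
        intro u hu
        exact Subgroup.mem_center_iff.2 fun b => Subtype.ext (Subgroup.mem_center_iff.1 hu b)
      obtain ⟨l, L, hl, hLn, hL, hLc⟩ := exists_normal_pGroup W hWc
      haveI := hLn
      rcases eq_or_ne l p with rfl | hlp
      · obtain ⟨hS', hf'⟩ := setup_quotient hS L hL hq hqp hf
        refine ih (Nat.card (G ⧸ L)) ?_ (G ⧸ L) rfl hS' q hq hqp hf'
        rw [← hn, Subgroup.card_eq_card_quotient_mul_card_subgroup L]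
        refine lt_mul_of_one_lt_right Nat.card_pos ?_
        rw [Subgroup.one_lt_card_iff_ne_bot]
        exact fun h => hLc (h ▸ bot_le)
      · exact false_of_normal_primeTo hS hqp hf hl hlp L hL hLc
    · -- perfect case
      have hW : ⁅W, W⁆ ⊔ Z = W := by
        have hle : ⁅W, W⁆ ⊔ Z ≤ W := sup_le (Subgroup.commutator_le_left W W) hZW.le
        refine Subgroup.eq_of_le_of_card_ge hle ?_
        rw [hWm]
        refine Nat.find_min' hex ⟨_, inferInstance, lt_of_le_of_ne le_sup_right fun h => hnil ?_,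
          fun h => hWt (top_le_iff.1 (h ▸ hle)), rfl⟩
        conv_rhs => rw [h]
        exact le_sup_left
      obtain ⟨l, hl, hlp, hlq, w, hw, hwQ, hwc⟩ := exists_third_prime hS.hp hq hW hWc
      haveI := Fact.mk hl
      by_cases hqW : ∀ v ∈ W, IsQ q v → v ∈ Z
      · exact false_of_perfect_not_dvd hS hqp hf hlp (hother l hl hlp hlq) hw hwQ hwc hqW
      · push Not at hqW
        obtain ⟨v, hv, hvQ, hvc⟩ := hqW
        have hSW : Setup p W := setup_subgroup hS W (fun w hw hwn =>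
          not_le_cen_of_normal hS hqp hf W hw hwn)
          ⟨q, l, hq, hl, hqp, hlp, hlq.symm, ⟨v, hv, hvQ, hvc⟩, ⟨w, hw, hwQ, hwc⟩⟩
        refine false_of_perfect_dvd hS hqp hf hW hv hvQ hvc
          (ih (Nat.card W) ?_ W rfl hSW q hq hqp)
        rw [← hn]
        exact lt_of_le_of_ne (Subgroup.card_le_card_group W) fun h =>
          hWt (Subgroup.card_eq_iff_eq_top W |>.1 h)

end Cfsg.Agent.RegTwoSizes
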