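import Mathlib
import Cfsg.Agent.Lib.RegTwoSizes.Main

/-!
# Two class sizes of `p`-regular elements
-/

set_option autoImplicit false
set_option linter.unusedSectionVars false

namespace Cfsg.Agent.RegTwoSizes

open Subgroup
open scoped Pointwise

variable {G : Type*} [Group G]

theorem ncard_carrier_eq (x : G) : (ConjClasses.mk x).carrier.ncard = (cen x).index := by
  have h : (ConjClasses.mk x).carrier = MulAction.orbit (ConjAct G) x := by
    ext y
    rw [ConjClasses.mem_carrier_iff_mk_eq, ConjClasses.mk_eq_mk_iff_isConj, isConj_iff,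
      MulAction.mem_orbit_iff]
    constructor
    · rintro ⟨c, hc⟩
      exact ⟨ConjAct.toConjAct c⁻¹, by rw [ConjAct.toConjAct_smul, ← hc]; group⟩
    · rintro ⟨c, rfl⟩
      exact ⟨(ConjAct.ofConjAct c)⁻¹, by rw [ConjAct.smul_def]; group⟩
  rw [h, ← MulAction.index_stabilizer, ConjAct.stabilizer_eq_centralizer]
  rfl

theorem conclusion {G : Type*} [Group G] [Finite G] {p : ℕ} (hp : p.Prime)
    (h2 : Set.ncard (Set.range fun x : {x : G // (orderOf x).Coprime p} =>
      (ConjClasses.mk (x : G)).carrier.ncard) = 2) :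
    (∃ H : Subgroup G, IsMulCommutative H ∧ ¬ p ∣ Nat.card H ∧ ∃ k : ℕ, H.index = p ^ k) ∨
    (∃ (q : ℕ) (_ : Fact q.Prime) (P : Sylow p G) (Q : Sylow q G) (A : Subgroup G), q ≠ p ∧
        A ≤ Subgroup.center G ∧
        Nat.card ↥((P : Subgroup G) ⊔ (Q : Subgroup G)) = Nat.card P * Nat.card Q ∧
        ((P : Subgroup G) ⊔ (Q : Subgroup G)).Normal ∧
        ((P : Subgroup G) ⊔ (Q : Subgroup G)) ⊓ A = ⊥ ∧
        ((P : Subgroup G) ⊔ (Q : Subgroup G)) ⊔ A = ⊤) := by
  classical
  set s : Set ℕ := Set.range fun x : {x : G // (orderOf x).Coprime p} =>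
      (ConjClasses.mk (x : G)).carrier.ncard with hs
  have h1 : (1 : ℕ) ∈ s := ⟨⟨1, by rw [orderOf_one]; exact Nat.coprime_one_left p⟩, by
    show (ConjClasses.mk (1 : G)).carrier.ncard = 1
    rw [ncard_carrier_eq, cen_eq_top_iff.2 (one_mem _), Subgroup.index_top]⟩
  obtain ⟨a, b, hab, hsab⟩ := Set.ncard_eq_two.1 h2
  have hmem : ∀ {x : G}, Reg p x → (cen x).index ∈ s := fun {x} hx =>
    ⟨⟨x, hx⟩, ncard_carrier_eq x⟩
  have hne1 : ∀ {x : G}, Non p x → (cen x).index ≠ 1 := fun {x} hx h =>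
    hx.2 (cen_eq_top_iff.1 (Subgroup.index_eq_one.1 h))
  have hyp : ∀ x y : G, Non p x → Non p y → Nat.card (cen x) = Nat.card (cen y) := by
    intro x y hx hy
    have h : (cen x).index = (cen y).index := by
      have e1 := hmem hx.1
      have e2 := hmem hy.1
      have n1 := hne1 hx
      have n2 := hne1 hy
      rw [hsab] at h1 e1 e2
      simp only [Set.mem_insert_iff, Set.mem_singleton_iff] at h1 e1 e2
      omega
    have e := (Subgroup.card_mul_index (cen x)).trans (Subgroup.card_mul_index (cen y)).symm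
    rw [h] at e
    exact Nat.eq_of_mul_eq_mul_right (Nat.pos_of_ne_zero Subgroup.index_ne_zero_of_finite) e
  obtain ⟨x₀, hx₀⟩ : ∃ x : G, Non p x := by
    by_contra hcon
    push Not at hcon
    have hall : ∀ c ∈ s, c = 1 := by
      rintro _ ⟨x, rfl⟩
      show (ConjClasses.mk (x : G)).carrier.ncard = 1
      rw [ncard_carrier_eq, cen_eq_top_iff.2 (by_contra fun h => hcon x ⟨x.2, h⟩), Subgroup.index_top]
    have ha := hall a (hsab ▸ Set.mem_insert a {b})
    have hb := hall b (hsab ▸ Set.mem_insert_of_mem a rfl)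
    exact hab (ha.trans hb.symm)
  haveI := Fact.mk hp
  obtain ⟨q, k, hq, hqp, hQ, hc⟩ := exists_primary hp hx₀
  haveI := Fact.mk hq
  by_cases htwo : ∃ r, r.Prime ∧ r ≠ p ∧ r ≠ q ∧ HasNon G r
  · -- at least two primes
    left
    obtain ⟨r, hr, hrp, hrq, hR⟩ := htwo
    have hS : Setup p G :=
      ⟨hp, hyp, q, r, hq, hr, hqp, hrp, hrq.symm, ⟨_, hQ, hc⟩, hR⟩
    have hnf : ∀ l : ℕ, l.Prime → l ≠ p → ¬ Fail p l G := fun l hl hlp =>
      main (Nat.card G) G rfl hS l hl hlp
    let A : Subgroup G := {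
      carrier := {u | u ∈ cen x₀ ∧ Reg p u}
      one_mem' := ⟨one_mem _, by rw [Reg, orderOf_one]; exact Nat.coprime_one_left p⟩
      mul_mem' := fun {a b} ha hb => ⟨(cen x₀).mul_mem ha.1 hb.1,
        ha.2.mul hb.2 (commute_of_mem hS hx₀ ha.1 ha.2 hb.1)⟩
      inv_mem' := fun {a} ha => ⟨(cen x₀).inv_mem ha.1, ha.2.inv⟩ }
    refine ⟨A, ⟨⟨fun u v => Subtype.ext (commute_of_mem hS hx₀ u.2.1 u.2.2 v.2.1).eq⟩⟩, ?_, ?_⟩
    · intro hd
      obtain ⟨⟨u, hu⟩, hup⟩ := exists_prime_orderOf_dvd_card' p hd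
      rw [Subgroup.orderOf_mk] at hup
      have h := hu.2
      rw [Reg, hup, Nat.coprime_self] at h
      exact hp.ne_one h
    · refine ⟨_, Nat.eq_prime_pow_of_unique_prime_dvd Subgroup.index_ne_zero_of_finite ?_⟩
      intro l hl hd
      by_contra hlp
      haveI := Fact.mk hl
      let T : Sylow l G := Sylow.ofCard (tor x₀ l) (by
        rw [card_tor hS hx₀ hl hlp, not_fail_factorization hS hl (hnf l hl hlp) hx₀])
      have hle : (T : Subgroup G) ≤ A := fun u hu =>
        ⟨tor_le x₀ l hu, reg_of_mem_tor hS hx₀ hl hlp hu⟩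
      exact T.not_dvd_index (hd.trans (Subgroup.index_dvd_of_le hle))
  · -- one prime
    right
    push Not at htwo
    obtain ⟨P⟩ : Nonempty (Sylow p G) := inferInstance
    obtain ⟨Q⟩ : Nonempty (Sylow q G) := inferInstance
    let A : Subgroup G := {
      carrier := {u | u ∈ Subgroup.center G ∧ (orderOf u).Coprime (p * q)}
      one_mem' := ⟨one_mem _, by rw [orderOf_one]; exact Nat.coprime_one_left _⟩
      mul_mem' := fun {a b} ha hb => ⟨(Subgroup.center G).mul_mem ha.1 hb.1,
        (Nat.Coprime.mul_left ha.2 hb.2).of_dvd_left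
          (Commute.orderOf_mul_dvd_mul_orderOf (Subgroup.mem_center_iff.1 hb.1 a))⟩
      inv_mem' := fun {a} ha => ⟨(Subgroup.center G).inv_mem ha.1, by rw [orderOf_inv]; exact ha.2⟩ }
    have hAc : A ≤ Subgroup.center G := fun u hu => hu.1
    haveI hAn : A.Normal := ⟨fun u hu h => by
      rwa [Subgroup.mem_center_iff.1 (hAc hu) h, mul_inv_cancel_right]⟩
    have hAcop : ∀ l, l.Prime → (l = p ∨ l = q) → ¬ l ∣ Nat.card A := by
      intro l hl hlpq hd
      haveI := Fact.mk hl
      obtain ⟨⟨u, hu⟩, hup⟩ := exists_prime_orderOf_dvd_card' l hd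
      rw [Subgroup.orderOf_mk] at hup
      have h := hu.2
      rw [hup, Nat.coprime_mul_iff_right] at h
      rcases hlpq with rfl | rfl
      · exact hl.ne_one ((Nat.coprime_self _).1 h.1)
      · exact hl.ne_one ((Nat.coprime_self _).1 h.2)
    have hAidx : ∀ l, l.Prime → l ∣ A.index → l = p ∨ l = q := by
      intro l hl hd
      by_contra hne
      push Not at hne
      haveI := Fact.mk hl
      obtain ⟨L⟩ : Nonempty (Sylow l G) := inferInstance
      have hle : (L : Subgroup G) ≤ A := by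
        intro u hu
        have huQ : IsQ l u := isQ_of_mem L.isPGroup' hu
        obtain ⟨j, hj⟩ := huQ.orderOf_dvd
        refine ⟨by_contra fun h => htwo l hl hne.1 hne.2 ⟨u, huQ, h⟩, Nat.Coprime.of_dvd_left hj ?_⟩
        exact (Nat.Coprime.mul_right ((Nat.coprime_primes hl hp).2 hne.1)
          ((Nat.coprime_primes hl hq).2 hne.2)).pow_left j
      exact L.not_dvd_index (hd.trans (Subgroup.index_dvd_of_le hle))
    have hcop : (Nat.card A).Coprime A.index := by
      refine Nat.coprime_of_dvd fun l hl h1 h2 => hAcop l hl (hAidx l hl h2) h1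
    obtain ⟨K, hK⟩ := Subgroup.exists_right_complement'_of_coprime hcop
    haveI hKn : K.Normal := ⟨fun u hu g => by
      have hg : g ∈ A ⊔ K := hK.sup_eq_top ▸ Subgroup.mem_top g
      obtain ⟨a, ha, b, hb, rfl⟩ := Subgroup.mem_sup_of_normal_left.1 hg
      have : a * b * u * (a * b)⁻¹ = b * u * b⁻¹ := by
        rw [show a * b * u * (a * b)⁻¹ = a * (b * u * b⁻¹) * a⁻¹ by group,
          ← Subgroup.mem_center_iff.1 (hAc ha) (b * u * b⁻¹), mul_inv_cancel_right]
      rw [this]
      exact K.mul_mem (K.mul_mem hb hu) (K.inv_mem hb)⟩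
    have hKcard : Nat.card K = A.index := hK.symm.index_eq_card.symm
    have hKidx : K.index = Nat.card A := hK.index_eq_card
    have hsub : ∀ (l : ℕ) [Fact l.Prime] (L : Sylow l G), (l = p ∨ l = q) → (L : Subgroup G) ≤ K := by
      intro l hl L hlpq u hu
      obtain ⟨j, hj⟩ := (isQ_of_mem L.isPGroup' hu).orderOf_dvd
      have hd : orderOf (QuotientGroup.mk u : G ⧸ K) ∣ Nat.card A := by
        rw [← hKidx, Subgroup.index_eq_card]
        exact orderOf_dvd_natCard _
      have hd' : orderOf (QuotientGroup.mk u : G ⧸ K) ∣ l ^ j :=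
        (orderOf_map_dvd (QuotientGroup.mk' K) u).trans hj
      have hc : (l ^ j).Coprime (Nat.card A) :=
        ((hl.out.coprime_iff_not_dvd).2 (hAcop l hl.out hlpq)).pow_left j
      rw [← QuotientGroup.eq_one_iff, ← orderOf_eq_one_iff]
      exact Nat.eq_one_of_dvd_coprimes hc hd' hd
    set J := (P : Subgroup G) ⊔ (Q : Subgroup G) with hJ
    have hJK : J ≤ K := sup_le (hsub p P (Or.inl rfl)) (hsub q Q (Or.inr rfl))
    have hpq : (Nat.card P).Coprime (Nat.card Q) := by
      rw [P.card_eq_multiplicity, Q.card_eq_multiplicity]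
      exact ((Nat.coprime_primes hp hq).2 hqp.symm).pow _ _
    have hKeq : Nat.card K = Nat.card P * Nat.card Q := by
      have hfac : ∀ l, (l = p ∨ l = q) →
          (Nat.card K).factorization l = (Nat.card G).factorization l := by
        intro l hl
        have hl' : l.Prime := by rcases hl with rfl | rfl <;> assumption
        rw [← Subgroup.card_mul_index K, Nat.factorization_mul Nat.card_pos.ne'
          Subgroup.index_ne_zero_of_finite, hKidx, Finsupp.add_apply,
          Nat.factorization_eq_zero_of_not_dvd (hAcop l hl' hl), add_zero]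
      refine Nat.eq_of_factorization_eq Nat.card_pos.ne'
        (Nat.mul_ne_zero Nat.card_pos.ne' Nat.card_pos.ne') fun l => ?_
      rw [Nat.factorization_mul Nat.card_pos.ne' Nat.card_pos.ne', Finsupp.add_apply,
        P.card_eq_multiplicity, Q.card_eq_multiplicity, hp.factorization_pow, hq.factorization_pow,
        Finsupp.single_apply, Finsupp.single_apply]
      rcases eq_or_ne p l with rfl | hpl
      · simp [hqp, hfac _ (Or.inl rfl)]
      rcases eq_or_ne q l with rfl | hql
      · simp [hpl, hfac _ (Or.inr rfl)]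
      simp only [if_neg hpl, if_neg hql, add_zero]
      by_cases hl : l.Prime
      · refine Nat.factorization_eq_zero_of_not_dvd fun hd => ?_
        exact (hAidx l hl (hKcard ▸ hd)).elim hpl.symm hql.symm
      · exact Nat.factorization_eq_zero_of_not_prime _ hl
    have hJeq : J = K := Subgroup.eq_of_le_of_card_ge hJK (by
      rw [hKeq]
      exact Nat.le_of_dvd Nat.card_pos (hpq.mul_dvd_of_dvd_of_dvd
        (Subgroup.card_dvd_of_le le_sup_left) (Subgroup.card_dvd_of_le le_sup_right)))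
    refine ⟨q, ⟨hq⟩, P, Q, A, hqp, hAc, ?_, ?_, ?_, ?_⟩
    · rw [← hJ, hJeq, hKeq]
    · rw [← hJ, hJeq]; exact hKn
    · rw [← hJ, hJeq, inf_comm]; exact hK.disjoint.eq_bot
    · rw [← hJ, hJeq, sup_comm]; exact hK.sup_eq_top

end Cfsg.Agent.RegTwoSizes
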